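import Cfsg.Prelude.Def_Classification2
import Cfsg.Agent.H430.CfGraph
import Cfsg.Agent.S2060
import Cfsg.Agent.S2063
import Cfsg.Agent.S2064
import Cfsg.Agent.S2065
import Cfsg.Agent.S2068
import Cfsg.Agent.S2069
import Cfsg.Agent.S2070
import Cfsg.Agent.S2071
import Cfsg.Agent.S2076
import Cfsg.Agent.S2077
import Cfsg.Agent.S2080
import Cfsg.Agent.S2083
import Cfsg.Agent.S2084
import Cfsg.Agent.S2085
import Cfsg.Agent.S2061
import Cfsg.Agent.S2066
import Cfsg.Agent.S2067
import Cfsg.Agent.S2072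
import Cfsg.Agent.S2073
import Cfsg.Agent.S2074
import Cfsg.Agent.S2075
import Cfsg.Agent.S2078
import Cfsg.Agent.S2079
import Cfsg.Agent.S2081
import Cfsg.Agent.S2082
import Cfsg.Agent.S2062
import Cfsg.Agent.Wreath.AZeroMain_m3
import Cfsg.Agent.FastGrp
import Cfsg.Agent.Prune
set_option linter.all false
prune_inst 0x7f00000000000000000000000000000000000000000000000000000000000000000000000000000000000000000000000000000000000000000000000000000000000000000000000000000000000000003fffffffffffffffffffffffffffbeffbdffffffff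
open scoped Cfsg.Agent.FastGrp

-- part: H430/CfSporOne
section
/-!
# Rows of S5880: the sporadic groups with `Out = 1`
-/

set_option autoImplicit false

namespace Cfsg.Agent.H430.CfSpor

open Cfsg Cfsg.Spor Cfsg.Agent.H430.CfBase

universe u

theorem row_m11 {G : Type u} [Group G] [IsSimpleGroup G] (h : IsoM11 G) : Row G := by
  have hN : Nontrivial M11 := h.some.symm.toEquiv.nontrivial
  exact Row.of_card_out_one h S2060.result

theorem row_m23 {G : Type u} [Group G] [IsSimpleGroup G] (h : IsoM23 G) : Row G := by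
  have hN : Nontrivial M23 := h.some.symm.toEquiv.nontrivial
  exact Row.of_card_out_one h S2063.result

theorem row_m24 {G : Type u} [Group G] [IsSimpleGroup G] (h : IsoM24 G) : Row G := by
  have hN : Nontrivial M24 := h.some.symm.toEquiv.nontrivial
  exact Row.of_card_out_one h S2064.result

theorem row_j1 {G : Type u} [Group G] [IsSimpleGroup G] (h : IsoJ1 G) : Row G := by
  have hN : Nontrivial J1 := h.some.symm.toEquiv.nontrivial
  exact Row.of_card_out_one h S2065.result

theorem row_j4 {G : Type u} [Group G] [IsSimpleGroup G] (h : IsoJ4 G) : Row G := by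
  have hN : Nontrivial J4 := h.some.symm.toEquiv.nontrivial
  exact Row.of_card_out_one h S2068.result

theorem row_co1 {G : Type u} [Group G] [IsSimpleGroup G] (h : IsoCo1 G) : Row G := by
  have hN : Nontrivial Co1 := h.some.symm.toEquiv.nontrivial
  exact Row.of_card_out_one h S2069.result

theorem row_co2 {G : Type u} [Group G] [IsSimpleGroup G] (h : IsoCo2 G) : Row G := by
  have hN : Nontrivial Co2 := h.some.symm.toEquiv.nontrivial
  exact Row.of_card_out_one h S2070.result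

theorem row_co3 {G : Type u} [Group G] [IsSimpleGroup G] (h : IsoCo3 G) : Row G := by
  have hN : Nontrivial Co3 := h.some.symm.toEquiv.nontrivial
  exact Row.of_card_out_one h S2071.result

theorem row_ly {G : Type u} [Group G] [IsSimpleGroup G] (h : IsoLy G) : Row G := by
  have hN : Nontrivial Ly := h.some.symm.toEquiv.nontrivial
  exact Row.of_card_out_one h S2076.result

theorem row_ru {G : Type u} [Group G] [IsSimpleGroup G] (h : IsoRu G) : Row G := by
  have hN : Nontrivial Ru := h.some.symm.toEquiv.nontrivial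
  exact Row.of_card_out_one h S2077.result

theorem row_fi23 {G : Type u} [Group G] [IsSimpleGroup G] (h : IsoFi23 G) : Row G := by
  have hN : Nontrivial Fi23 := h.some.symm.toEquiv.nontrivial
  exact Row.of_card_out_one h S2080.result

theorem row_th {G : Type u} [Group G] [IsSimpleGroup G] (h : IsoTh G) : Row G := by
  have hN : Nontrivial Th := h.some.symm.toEquiv.nontrivial
  exact Row.of_card_out_one h S2083.result

theorem row_b {G : Type u} [Group G] [IsSimpleGroup G] (h : IsoB G) : Row G := by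
  have hN : Nontrivial BabyMonster := h.some.symm.toEquiv.nontrivial
  exact Row.of_card_out_one h S2084.result

theorem row_m {G : Type u} [Group G] [IsSimpleGroup G] (h : IsoM G) : Row G := by
  have hN : Nontrivial Monster := h.some.symm.toEquiv.nontrivial
  exact Row.of_card_out_one h S2085.result

end Cfsg.Agent.H430.CfSpor
end

-- part: H430/CfSporTwo
section
/-!
# Rows of S5880: sporadic groups with `|Out| = 2`
-/

set_option autoImplicit false

namespace Cfsg.Agent.H430.CfSpor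

open Cfsg Cfsg.Spor Cfsg.Agent.H430.CfBase

universe u

theorem ne_of_not_mem {T : Type*} [Group T] {β : MulAut T} (h : β ∉ (MulAut.conj : T →* MulAut T).range) (k : T) :
    β ≠ MulAut.conj k := fun h1 => h ⟨k, h1.symm⟩

theorem finite_of_out {T : Type*} [Group T] {G : Type*} [Group G] [Finite G] (e : Nonempty (G ≃* T)) : Finite T :=
  Finite.of_equiv G e.some.toEquiv

theorem row_m12 {G : Type u} [Group G] [Finite G] [IsSimpleGroup G] (h : IsoM12 G) : Row G := by
  have hN : Nontrivial M12 := h.some.symm.toEquiv.nontrivial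
  have hF : Finite M12 := finite_of_out h
  exact Row.of_card_out_two h S2061.result Cfsg.Agent.OddHalf.Table.OutMTwelve.al
    (ne_of_not_mem S2061.al_not_inner) Cfsg.Agent.OddHalf.Table.OutMTwelve.al_mul_al

theorem row_j2 {G : Type u} [Group G] [Finite G] [IsSimpleGroup G] (h : IsoJ2 G) : Row G := by
  have hN : Nontrivial J2 := h.some.symm.toEquiv.nontrivial
  have hF : Finite J2 := finite_of_out h
  have h1 : ∀ q, H55.OutGen.centerQuot H55.JTwo.al ≠ MulAut.conj q := fun q h => by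
    obtain ⟨k, rfl⟩ := QuotientGroup.mk_surjective q
    apply H55.JTwo.al_not_inner_mod k
    intro g
    have h2 := congrArg (fun f : MulAut (J2.Refl.W ⧸ Subgroup.center J2.Refl.W) => f (QuotientGroup.mk g)) h
    simp only [MulAut.conj_apply] at h2
    rw [H55.OutGen.centerQuot_mk, ← QuotientGroup.mk_mul, ← QuotientGroup.mk_inv, ← QuotientGroup.mk_mul, eq_comm,
      QuotientGroup.eq] at h2
    exact h2
  have h2 : ∀ x, H55.OutGen.centerQuot H55.JTwo.al (H55.OutGen.centerQuot H55.JTwo.al x) = x := by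
    intro x
    obtain ⟨k, rfl⟩ := QuotientGroup.mk_surjective x
    rw [H55.OutGen.centerQuot_mk, H55.OutGen.centerQuot_mk]
    congr 1
    apply Subtype.ext
    rw [H55.JTwo.al_coe, H55.JTwo.al_coe]
    have h3 := H55.JTwo.TH_sq
    have h4 := H55.JTwo.TH_inv
    rw [h4]
    calc H55.JTwo.TH * (H55.JTwo.TH * (k : Equiv.Perm _) * H55.JTwo.TH) * H55.JTwo.TH
        = (H55.JTwo.TH * H55.JTwo.TH) * (k : Equiv.Perm _) * (H55.JTwo.TH * H55.JTwo.TH) := by group
      _ = _ := by rw [h3, one_mul, mul_one]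
  refine Row.of_card_out_two h S2066.result
    ((J2.Group.equivJ2.symm.trans (H55.OutGen.centerQuot H55.JTwo.al)).trans J2.Group.equivJ2) (fun k h => ?_) ?_
  · apply h1 (J2.Group.equivJ2.symm k)
    ext x
    have h1 := congrArg (fun f : MulAut J2 => J2.Group.equivJ2.symm (f (J2.Group.equivJ2 x))) h
    simpa only [_root_.MulAut.conj_apply, _root_.MulEquiv.trans_apply, _root_.MulEquiv.symm_apply_apply, _root_.map_mul, _root_.map_inv] using h1
  · apply mul_self_eq_one
    intro x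
    simp only [MulEquiv.trans_apply, MulEquiv.symm_apply_apply]
    rw [h2, MulEquiv.apply_symm_apply]

theorem row_j3 {G : Type u} [Group G] [Finite G] [IsSimpleGroup G] (h : IsoJ3 G) : Row G := by
  obtain ⟨F, _, _, ω, hF, hω, e⟩ := h
  have hN : Nontrivial (J3 F ω) := e.some.symm.toEquiv.nontrivial
  have hfin : Finite (J3 F ω) := finite_of_out e
  have H := Cfsg.Agent.J3.Core.good_of_card hF hω
  refine Row.of_card_out_two e (S2067.result hF ω hω) (H55.OutGen.centerQuot (H55.JThree.phi hF H))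
    (H55.OutGen.centerQuot_not_inner (H55.JThree.hom_center hF H) (H55.JThree.phi_not_inner hF H)) ?_
  apply mul_self_eq_one
  intro x
  obtain ⟨k, rfl⟩ := QuotientGroup.mk_surjective x
  rw [H55.OutGen.centerQuot_mk, H55.OutGen.centerQuot_mk]
  congr 1
  exact Subtype.ext (H55.JThree.phiG_phiG hF H _)

theorem row_he {G : Type u} [Group G] [Finite G] [IsSimpleGroup G] (h : IsoHe G) : Row G := by
  have hN : Nontrivial He := h.some.symm.toEquiv.nontrivial
  have hF : Finite He := finite_of_out h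
  exact Row.of_card_out_two h S2075.result H997.OutHe.rho H997.OutHe.rho_outer H997.OutHe.rho_sq

theorem row_suz {G : Type u} [Group G] [Finite G] [IsSimpleGroup G] (h : IsoSuz G) : Row G := by
  have hN : Nontrivial Suz := h.some.symm.toEquiv.nontrivial
  have hF : Finite Suz := finite_of_out h
  exact Row.of_card_out_two h S2074.result KFacts.SuzRho.rho H997.OutSuz.rho_outer KFacts.SuzRho.rho_sq

theorem row_on {G : Type u} [Group G] [Finite G] [IsSimpleGroup G] (h : IsoON G) : Row G := by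
  have hN : Nontrivial ON := h.some.symm.toEquiv.nontrivial
  have hF : Finite ON := finite_of_out h
  have hON : IsON ON := Cfsg.Agent.S1699.result
  exact Row.of_card_out_two h S2078.result (Cfsg.Agent.UGT.C.BalON.bt hON) (ne_of_not_mem (S2078.bt_not_inner hON))
    (Cfsg.Agent.UGT.C.BalON.bt_bt hON)

theorem row_hs {G : Type u} [Group G] [Finite G] [IsSimpleGroup G] (h : IsoHS G) : Row G := by
  have hN : Nontrivial HS := h.some.symm.toEquiv.nontrivial
  have hF : Finite HS := finite_of_out h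
  obtain ⟨D⟩ := KFacts.HS.exists_mod (L := HS) ⟨MulEquiv.refl _⟩
  refine Row.of_card_out_two h S2072.result (D.au Cfsg.Agent.HN.Pres.gz) (ne_of_not_mem fun h => ?_) ?_
  · exact Cfsg.Agent.HN.HS100.gz_not_mem (D.mem_K_of_inner h)
  · rw [← map_mul, Cfsg.Agent.HN.LocFromFusion.gz_sq, _root_.map_one]

theorem row_mcl {G : Type u} [Group G] [Finite G] [IsSimpleGroup G] (h : IsoMcL G) : Row G := by
  have hN : Nontrivial McL := h.some.symm.toEquiv.nontrivial
  obtain ⟨hfin, hsimple, hcard, ⟨L⟩⟩ := TypeM.FactsMcL.exists_mt_mcl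
  have hG : TypeM.FactsAut.Gen L := TypeM.FactsAut.gen L (Or.inl ⟨rfl, hcard⟩)
  have h2 : (MulAut.conj : McL →* MulAut McL).range.index = 2 := S2073.result
  obtain ⟨φ, h3, h4⟩ := TypeM.OuterInvol.exists_outer_involution L (Or.inl rfl) hG (by
    by_contra hne
    push Not at hne
    have : (MulAut.conj : McL →* MulAut McL).range = ⊤ := by
      rw [eq_top_iff]; exact fun φ _ => hne φ
    rw [this, Subgroup.index_top] at h2
    omega)
  exact Row.of_card_out_two h S2073.result φ (ne_of_not_mem h3) h4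

theorem fi24_sq (x : Fi24.Gen) : (PresentedGroup.of x : Fi24) * PresentedGroup.of x = 1 := by
  have hx : x ∈ coxNodes Fi24.edges := by cases x <;> decide
  have hl : coxLabel Fi24.edges x x = 1 := by cases x <;> decide
  have h : (PresentedGroup.mk (coxRelators Fi24.edges ∪ {r | r ∈ Fi24.extra}))
      ((FreeGroup.of x * FreeGroup.of x) ^ coxLabel Fi24.edges x x) = 1 :=
    PresentedGroup.one_of_mem (Or.inl ⟨x, hx, x, hx, rfl⟩)
  rw [hl, pow_one, map_mul] at h
  exact h

theorem fi24_exists : ∃ t : Fi24, t ∉ commutator Fi24 ∧ t * t = 1 := by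
  have F := Cfsg.Agent.KFacts.FiTF.frame
  by_contra hne
  push Not at hne
  have h2 := F.two
  have h1 : (commutator Fi24) = ⊤ := by
    rw [eq_top_iff, ← PresentedGroup.closure_range_of, Subgroup.closure_le]
    rintro _ ⟨x, rfl⟩
    by_contra h3
    exact hne _ h3 (fi24_sq x)
  rw [h1, Subgroup.index_top] at h2
  omega

theorem row_fi24 {G : Type u} [Group G] [Finite G] [IsSimpleGroup G] (h : IsoFi24' G) : Row G := by
  have hN : Nontrivial Fi24' := h.some.symm.toEquiv.nontrivial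
  have hfin : Finite Fi24' := finite_of_out h
  have F := Cfsg.Agent.KFacts.FiTF.frame
  obtain ⟨t, ht, htt⟩ := fi24_exists
  refine Row.of_card_out_two h S2081.result (MulAut.conjNormal t)
    (Cfsg.Agent.H997.OutCard.conjNormal_outer (K := commutator Cfsg.Spor.Fi24) ht fun c hc => ?_) ?_
  · rcases F.cent c (fun r hr => hc r (F.EK (F.RE hr))) with h | h
    · rw [h]
      exact one_mem _
    · rw [h]
      exact F.EK (F.RE F.zR)
  · rw [← map_mul, htt, _root_.map_one]

section fi22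
open Cfsg.Agent.R08 Cfsg.Agent.R08.LiftCls
open Cfsg.Agent.Fischer.Fi23Class (K)
open Cfsg.Agent.Fischer.Fi23Cover (kgen)
open Cfsg.Agent.R08.FiTwentyThree (pi zK S)

/-- an outer automorphism of `Fi22` of order 2 (S2079) -/
theorem fi22_exists : ∃ α : MulAut Cfsg.Spor.Fi22, (∀ x : Cfsg.Spor.Fi22, α ≠ MulAut.conj x) ∧ α * α = 1 := by
  have hc := LemmaVInst.clsK
  obtain ⟨γ, h1, -, h3, h4⟩ := X4Gamma.exists_gamma
  have hz : γ zK = zK := h3
  have hker : pi.ker ≤ (pi.comp γ.toMonoidHom).ker := by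
    intro y hy
    rw [MonoidHom.mem_ker] at hy ⊢
    show pi (γ y) = 1
    rcases (hc.ext.ker y).1 hy with h | h
    · rw [h, _root_.map_one, _root_.map_one]
    · rw [h, hz]
      exact hc.ext.mapz
  let f : Cfsg.Spor.Fi22 →* Cfsg.Spor.Fi22 := pi.liftOfSurjective hc.ext.surj ⟨pi.comp γ.toMonoidHom, hker⟩
  have hf : ∀ y, f (pi y) = pi (γ y) := fun y =>
    MonoidHom.liftOfRightInverse_comp_apply pi _ _ ⟨pi.comp γ.toMonoidHom, hker⟩ y
  have hff : f.comp f = MonoidHom.id _ := by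
    refine MonoidHom.ext fun x => ?_
    obtain ⟨y, rfl⟩ := hc.ext.surj x
    show f (f (pi y)) = pi y
    rw [hf, hf, h4]
  refine ⟨f.toMulEquiv f hff hff, fun x hx => ?_, mul_self_eq_one _ fun x => DFunLike.congr_fun hff x⟩
  obtain ⟨k, rfl⟩ := hc.ext.surj x
  have h5 : ∀ y, pi (γ y) = pi (k * y * k⁻¹) := by
    intro y
    rw [← hf, map_mul, map_mul, map_inv]
    exact DFunLike.congr_fun hx (pi y)
  have h6 := S2079.conj_of_quot γ k h5 (kgen .a)
  have ha : kgen .a ∈ S := by
    have h : kgen .a = Cfsg.Agent.R01.AlphaFi23.t .a := by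
      apply Subtype.ext
      rfl
    rw [h]
    exact LemmaVInst.ta_mem
  have h7 : k * kgen .a * k⁻¹ ∈ S := hc.conj k ha
  rw [← h6, h1 .a (by decide)] at h7
  refine hc.nz _ ha ?_
  have h8 : kgen .a * zK = zK * kgen .a := hc.ext.comm _
  rw [h8]
  exact h7

end fi22

theorem row_fi22 {G : Type u} [Group G] [Finite G] [IsSimpleGroup G] (h : IsoFi22 G) : Row G := by
  have hN : Nontrivial Fi22 := h.some.symm.toEquiv.nontrivial
  have hfin : Finite Fi22 := finite_of_out h
  obtain ⟨α, h1, h2⟩ := fi22_exists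
  exact Row.of_card_out_two h S2079.result α h1 h2

open Cfsg.Agent.J4Type.Aut22 Cfsg.Agent.KFacts.MM.OutAut in
theorem row_m22 {G : Type u} [Group G] [Finite G] [IsSimpleGroup G] (h : IsoM22 G) : Row G := by
  have hN : Nontrivial M22 := h.some.symm.toEquiv.nontrivial
  have hfin : Finite M22 := finite_of_out h
  -- an involution of `M24`
  obtain ⟨t, ht1, ht2⟩ : ∃ t : M24, t ≠ 1 ∧ t * t = 1 := by
    have : Fact (Nat.Prime 2) := ⟨Nat.prime_two⟩
    have hcard : 2 ∣ Nat.card M24 := by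
      have h1 : Nat.card Cfsg.Spor.M22 = 443520 := Cfsg.Agent.SporadicA.MathieuRecog.card_M22
      have h2 : Nat.card Cfsg.Spor.M22 ∣ Nat.card M24 := Subgroup.card_dvd_of_le M22_le_M24
      rw [h1] at h2
      exact (by norm_num : 2 ∣ 443520).trans h2
    obtain ⟨t, ht⟩ := exists_prime_orderOf_dvd_card' 2 hcard
    refine ⟨t, fun h => ?_, ?_⟩
    · rw [h, orderOf_one] at ht; omega
    · rw [← pow_two, ← ht, pow_orderOf_eq_one]
  obtain ⟨x, hx⟩ : ∃ x : GolayPt, (t : Equiv.Perm GolayPt) x ≠ x := by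
    by_contra hne
    push Not at hne
    exact ht1 (Subtype.ext (Equiv.ext hne))
  obtain ⟨y, hy⟩ : ∃ y : GolayPt, y = (t : Equiv.Perm GolayPt) x := ⟨_, rfl⟩
  rw [← hy] at hx
  have hty : (t : Equiv.Perm GolayPt) y = x := by
    rw [hy]
    exact congrArg (fun z : M24 => (z : Equiv.Perm GolayPt) x) ht2
  obtain ⟨g, hg⟩ := Cfsg.Agent.SporadicStructure.M23Index253.exists_map (n := 2) S0366.result (by norm_num)
    ![none, some 0] ![x, y] (by
      intro i j hij
      fin_cases i <;> fin_cases j <;> simp at hij ⊢) (by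
      intro i j hij
      fin_cases i <;> fin_cases j <;> simp at hij ⊢
      · exact hx hij.symm
      · exact hx hij)
  have hg0 : (g : Equiv.Perm GolayPt) none = x := hg 0
  have hg1 : (g : Equiv.Perm GolayPt) (some 0) = y := hg 1
  obtain ⟨s, hs⟩ : ∃ s : Equiv.Perm GolayPt, s = (g : Equiv.Perm GolayPt)⁻¹ * t * g := ⟨_, rfl⟩
  have hs24 : s ∈ M24 := by
    rw [hs]
    exact M24.mul_mem (M24.mul_mem (M24.inv_mem g.2) t.2) g.2
  have hs0 : s none = some 0 := by
    rw [hs, Equiv.Perm.mul_apply, Equiv.Perm.mul_apply, hg0, ← hy, ← hg1]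
    simp
  have hs1 : s (some 0) = none := by
    rw [hs, Equiv.Perm.mul_apply, Equiv.Perm.mul_apply, hg1, hty, ← hg0]
    simp
  have hss : s * s = 1 := by
    have h1 : (t : Equiv.Perm GolayPt) * t = 1 := congrArg (fun z : M24 => (z : Equiv.Perm GolayPt)) ht2
    rw [hs]
    calc (g : Equiv.Perm GolayPt)⁻¹ * t * g * ((g : Equiv.Perm GolayPt)⁻¹ * t * g)
        = (g : Equiv.Perm GolayPt)⁻¹ * (t * t) * g := by group
      _ = 1 := by rw [h1]; group
  have hsD : s ∈ D22 := (mem_D22_iff s).2 ⟨hs24, Or.inr ⟨hs0, hs1⟩⟩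
  refine Row.of_card_out_two h S2062.result (autOf s hsD) (fun k hk => ?_) ?_
  · have h1 : emb (autOf s hsD) = s := ind_eq hsD fun m => rfl
    rw [hk, emb_conj] at h1
    have h2 := ((mem_M22_iff_D22 _).1 k.2).2
    rw [h1, hs0] at h2
    exact absurd h2 (by simp)
  · apply mul_self_eq_one
    intro m
    apply Subtype.ext
    show s * (s * m * s⁻¹) * s⁻¹ = m
    calc s * (s * (m : Equiv.Perm GolayPt) * s⁻¹) * s⁻¹ = (s * s) * m * (s * s)⁻¹ := by group
      _ = m := by rw [hss]; group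

section hn
open Cfsg.Agent.HN Cfsg.Agent.HN.Pres Cfsg.Agent.HN.HS100 Cfsg.Agent.HN.H0Basic Cfsg.Agent.H997.OutHN

/-- the endomorphism `θ` is not inner (proof of `OutHN.exists_outer`) -/
theorem hn_not_inner (θ : Cfsg.Spor.HN →* Cfsg.Spor.HN) (hx : θ Pres.hx = Pres.hx) (hy : θ Pres.hy = Pres.hy)
    (hz : θ Pres.hz = Pres.hz * Pres.hx ^ 2) (g : Cfsg.Spor.HN) (happ : ∀ u : Cfsg.Spor.HN, θ u = g * u * g⁻¹) :
    False := by
  have hx2 : Pres.hx ^ 2 ≠ 1 := by
    rw [← ψ_τ]
    intro h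
    exact KFacts.HN.emb.ne (KFacts.HN.emb.inj (h.trans (_root_.map_one _).symm))
  have hcomp : θ.comp NormalH.ψ = NormalH.ψ.comp twist := by
    refine MonoidHom.eq_of_eqOn_dense closure_gens ?_
    rintro h (rfl | rfl | rfl)
    · rw [MonoidHom.comp_apply, MonoidHom.comp_apply, twist_gx, NormalH.ψ_gx, hx]
    · rw [MonoidHom.comp_apply, MonoidHom.comp_apply, twist_gy, NormalH.ψ_gy, hy]
    · rw [MonoidHom.comp_apply, MonoidHom.comp_apply, twist_gz, map_mul, NormalH.ψ_gz, ψ_τ, hz]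
  have hc : ∀ u : Cfsg.Spor.HN, θ u = u → g * u = u * g := by
    intro u hu
    rw [happ] at hu
    exact mul_inv_eq_iff_eq_mul.1 hu
  have hgτ : g * NormalH.ψ τ = NormalH.ψ τ * g := by
    apply hc
    rw [ψ_τ, map_pow, hx]
  obtain ⟨h, rfl⟩ := KFacts.HN.emb.cent g hgτ
  have hK : ∀ k ∈ K, h * k = k * h := by
    intro k hk
    apply KFacts.HN.emb.inj
    rw [map_mul, map_mul]
    apply hc
    have h1 := congrArg (fun f : H0 →* Cfsg.Spor.HN => f k) hcomp
    simp only [MonoidHom.comp_apply] at h1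
    rw [h1, twist_of_mem hk]
  have hz' : θ Pres.hz = Pres.hz := by
    rw [happ, mul_inv_eq_iff_eq_mul, ← NormalH.ψ_gz, ← map_mul, ← map_mul]
    rcases StepFive.eq_of_comm_K hK with rfl | rfl
    · rw [one_mul, mul_one]
    · rw [τ_comm]
  rw [hz] at hz'
  exact hx2 (mul_eq_left.1 hz')

theorem hx2_comm (h : H0) : Pres.hx ^ 2 * NormalH.ψ h = NormalH.ψ h * Pres.hx ^ 2 := by
  rw [← ψ_τ, ← map_mul, ← map_mul, τ_comm]

theorem hx4 : Pres.hx ^ 2 * Pres.hx ^ 2 = 1 := by rw [← ψ_τ, ← map_mul, τ_mul_τ, _root_.map_one]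

theorem ht_conj : Pres.hx ^ 2 * Pres.ht * (Pres.hx ^ 2)⁻¹ = Pres.ht ^ 4 := by
  have hx1 : Pres.hx⁻¹ * Pres.ht * Pres.hx = (Pres.ht ^ 2)⁻¹ := mul_eq_one_iff_eq_inv.1 rel_tx
  have hx2 : (Pres.hx ^ 2)⁻¹ * Pres.ht * Pres.hx ^ 2 = Pres.ht ^ 4 := by
    calc (Pres.hx ^ 2)⁻¹ * Pres.ht * Pres.hx ^ 2 = Pres.hx⁻¹ * (Pres.hx⁻¹ * Pres.ht * Pres.hx) * Pres.hx := by
          rw [pow_two]; group
      _ = Pres.hx⁻¹ * (Pres.ht ^ 2)⁻¹ * Pres.hx := by rw [hx1]
      _ = ((Pres.hx⁻¹ * Pres.ht * Pres.hx) ^ 2)⁻¹ := by rw [pow_two, pow_two]; group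
      _ = (((Pres.ht ^ 2)⁻¹) ^ 2)⁻¹ := by rw [hx1]
      _ = Pres.ht ^ 4 := by group
  have h1 : (Pres.hx ^ 2)⁻¹ = Pres.hx ^ 2 := inv_eq_of_mul_eq_one_left hx4
  rw [h1]
  rwa [h1] at hx2

/-- an outer automorphism of `HN` of order 2 -/
theorem hn_exists : ∃ α : MulAut Cfsg.Spor.HN, (∀ g : Cfsg.Spor.HN, α ≠ MulAut.conj g) ∧ α * α = 1 := by
  obtain ⟨θ, hx, hy, hz, ht⟩ := exists_end
  have h1 : (Pres.hx ^ 2)⁻¹ = Pres.hx ^ 2 := inv_eq_of_mul_eq_one_left hx4
  have hcy : Pres.hx ^ 2 * Pres.hy = Pres.hy * Pres.hx ^ 2 := by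
    rw [← NormalH.ψ_gy]; exact hx2_comm _
  have hcz : Pres.hx ^ 2 * Pres.hz = Pres.hz * Pres.hx ^ 2 := by
    rw [← NormalH.ψ_gz]; exact hx2_comm _
  -- `θ² = conj (hx²)`
  have hθ2 : θ.comp θ = (MulAut.conj (Pres.hx ^ 2)).toMonoidHom := by
    apply PresentedGroup.ext
    intro x
    cases x
    · show θ (θ Pres.hx) = Pres.hx ^ 2 * Pres.hx * (Pres.hx ^ 2)⁻¹
      rw [hx, hx]; group
    · show θ (θ Pres.hy) = Pres.hx ^ 2 * Pres.hy * (Pres.hx ^ 2)⁻¹
      rw [hy, hy, hcy]; group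
    · show θ (θ Pres.hz) = Pres.hx ^ 2 * Pres.hz * (Pres.hx ^ 2)⁻¹
      rw [hz, map_mul, hz, map_pow, hx, hcz, mul_assoc, hx4]; group
    · show θ (θ Pres.ht) = Pres.hx ^ 2 * Pres.ht * (Pres.hx ^ 2)⁻¹
      rw [ht, map_pow, ht, ht_conj, ← pow_mul]
  have hθ2' : ∀ u, θ (θ u) = Pres.hx ^ 2 * u * (Pres.hx ^ 2)⁻¹ := fun u => DFunLike.congr_fun hθ2 u
  let f : Cfsg.Spor.HN →* Cfsg.Spor.HN := (MulAut.conj Pres.hx).toMonoidHom.comp θ
  have hf : ∀ u, f u = Pres.hx * θ u * Pres.hx⁻¹ := fun u => rfl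
  have hff : f.comp f = MonoidHom.id _ := by
    refine MonoidHom.ext fun u => ?_
    show f (f u) = u
    rw [hf, hf, map_mul, map_mul, map_inv, hx, hθ2']
    have h4 := hx4
    calc Pres.hx * (Pres.hx * (Pres.hx ^ 2 * u * (Pres.hx ^ 2)⁻¹) * Pres.hx⁻¹) * Pres.hx⁻¹
        = (Pres.hx ^ 2 * Pres.hx ^ 2) * u * (Pres.hx ^ 2 * Pres.hx ^ 2)⁻¹ := by rw [pow_two]; group
      _ = u := by rw [h4]; group
  refine ⟨f.toMulEquiv f hff hff, fun g hg => ?_, mul_self_eq_one _ fun x => DFunLike.congr_fun hff x⟩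
  refine hn_not_inner θ hx hy hz (Pres.hx⁻¹ * g) fun u => ?_
  have h5 : f u = g * u * g⁻¹ := DFunLike.congr_fun hg u
  rw [hf] at h5
  calc θ u = Pres.hx⁻¹ * (Pres.hx * θ u * Pres.hx⁻¹) * Pres.hx := by group
    _ = Pres.hx⁻¹ * (g * u * g⁻¹) * Pres.hx := by rw [h5]
    _ = Pres.hx⁻¹ * g * u * (Pres.hx⁻¹ * g)⁻¹ := by group

end hn

theorem row_hn {G : Type u} [Group G] [Finite G] [IsSimpleGroup G] (h : IsoHN G) : Row G := by
  have hN : Nontrivial HN := h.some.symm.toEquiv.nontrivial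
  have hfin : Finite HN := finite_of_out h
  obtain ⟨α, h1, h2⟩ := hn_exists
  exact Row.of_card_out_two h S2082.result α h1 h2

end Cfsg.Agent.H430.CfSpor
end
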