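import Cfsg.Agent.H430.CfChev
import Cfsg.Agent.Prune
set_option linter.all false
open scoped Cfsg.Agent.FastGrp

namespace Cfsg.Agent.H90F

private noncomputable def frc {α : Type} (x : ℕ) (f : ℕ → α) : α := Nat.rec (f 0) (fun k _ => f (Nat.succ k)) x

private theorem frc_eq {α : Type} (x : ℕ) (f : ℕ → α) : frc x f = f x := by cases x <;> rfl

private noncomputable def nth {α : Type} (d : α) (l : List α) : ℕ → α :=
  List.rec (fun _ => d) (fun a _ ih n => Nat.rec a (fun k _ => ih k) n) l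

private theorem nth_eq {α : Type} (d : α) (l : List α) (n : ℕ) : nth d l n = l.getD n d := by
  induction l generalizing n with
  | nil => rfl
  | cons a l ih => cases n with
    | zero => rfl
    | succ k => exact ih k

private theorem nth_arr {α : Type} (d : α) (a : Array α) (n : ℕ) : a.getD n d = nth d a.toList n := by
  rw [nth_eq, List.getD_eq_getElem?_getD, Array.getD_eq_getD_getElem?, Array.getElem?_toList]

private noncomputable def row (D : Cfsg.Lie.ChevalleyDatum) (r : ℕ) : List (ℕ × Array (ℕ × ℤ)) := (nth #[] D.chain.toList r).toList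

private noncomputable def fnd (s : ℕ) (l : List (ℕ × Array (ℕ × ℤ))) : List (ℕ × ℤ) :=
  List.rec [] (fun e _ ih => Bool.rec ih e.2.toList (Nat.beq e.1 s)) l

private theorem ce_eq0 (D : Cfsg.Lie.ChevalleyDatum) (r s : ℕ) : D.chainEntry r s = fnd s (row D r) := by
  unfold Cfsg.Lie.ChevalleyDatum.chainEntry row
  rw [nth_arr]
  generalize (nth #[] D.chain.toList r).toList = l
  induction l with
  | nil => rfl
  | cons e l ih =>
    show _ = (Bool.rec (fnd s l) e.2.toList (Nat.beq e.1 s) : List (ℕ × ℤ))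
    by_cases h : e.1 = s
    · rw [List.find?_cons_of_pos (by simpa using h), Nat.beq_eq.mpr h]
    · rw [List.find?_cons_of_neg (by simpa using h), ih, Bool.eq_false_iff.2 fun h1 => h (Nat.eq_of_beq_eq_true h1)]

private noncomputable def fce (D : Cfsg.Lie.ChevalleyDatum) (r s : ℕ) : List (ℕ × ℤ) := frc r fun r => frc s fun s => fnd s (row D r)

private theorem ce_eq (D : Cfsg.Lie.ChevalleyDatum) : D.chainEntry = fce D := by
  funext r s
  rw [fce, frc_eq, frc_eq, ce_eq0]

private noncomputable def fcr (D : Cfsg.Lie.ChevalleyDatum) (r s i : ℕ) : Option ℕ := ((fce D r s)[i - 1]?).map Prod.fst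

private theorem cr_eq (D : Cfsg.Lie.ChevalleyDatum) : D.chainRoot = fcr D := by
  funext r s i
  rw [fcr, ← ce_eq]; rfl

private noncomputable def fcm (D : Cfsg.Lie.ChevalleyDatum) (r s i : ℕ) : ℤ := (((fce D r s)[i - 1]?).map Prod.snd).getD 0

private theorem cm_eq (D : Cfsg.Lie.ChevalleyDatum) : D.chainM = fcm D := by
  funext r s i
  rw [fcm, ← ce_eq]; rfl

private noncomputable def gct (cr : ℕ → ℕ → ℕ → Option ℕ) (cm : ℕ → ℕ → ℕ → ℤ) (r s : ℕ) : List (ℕ × ℤ × ℕ × ℕ) :=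
  ([(cr r s 1, cm r s 1, 1, 1), (cr r s 2, cm r s 2, 2, 1), (cr s r 2, cm s r 2, 1, 2), (cr r s 3, cm r s 3, 3, 1),
      (cr s r 3, - cm s r 3, 1, 3),
      ((cr r s 3).bind fun k => cr k s 1, ((cr r s 1).map fun k => cm k r 2 / 3).getD 0, 3, 2),
      ((cr s r 3).bind fun k => cr k r 1, ((cr r s 1).map fun k => -2 * cm k s 2 / 3).getD 0, 2, 3)] :
    List (Option ℕ × ℤ × ℕ × ℕ)).filterMap fun c => c.1.map fun k => (k, c.2)

private theorem gct_eq (D : Cfsg.Lie.ChevalleyDatum) (r s : ℕ) : D.commTerms r s = gct (fcr D) (fcm D) r s := by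
  rw [← cr_eq, ← cm_eq]; rfl

private noncomputable def msk (l : List (ℕ × Array (ℕ × ℤ))) : ℕ := List.rec 0 (fun e _ ih => Nat.lor ih (Nat.shiftLeft 1 e.1)) l

private theorem fnd_nil {s : ℕ} {l : List (ℕ × Array (ℕ × ℤ))} (h : (msk l).testBit s = false) : fnd s l = [] := by
  induction l with
  | nil => rfl
  | cons e l ih =>
    have h1 : (msk l ||| 1 <<< e.1).testBit s = false := h
    rw [Nat.testBit_or, Bool.or_eq_false_iff, Nat.one_shiftLeft, Nat.testBit_two_pow] at h1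
    show (Bool.rec (fnd s l) e.2.toList (Nat.beq e.1 s) : List (ℕ × ℤ)) = []
    rw [Bool.eq_false_iff.2 fun h2 => of_decide_eq_false h1.2 (Nat.eq_of_beq_eq_true h2)]
    exact ih h1.1

private noncomputable def fc2 (D : Cfsg.Lie.ChevalleyDatum) (r s : ℕ) : List (ℕ × ℤ) → List (ℕ × ℤ) → List (ℕ × ℤ × ℕ × ℕ)
  | [x], [_] => [(x.1, x.2, 1, 1)]
  | _, _ => gct (fcr D) (fcm D) r s

private noncomputable def fct (D : Cfsg.Lie.ChevalleyDatum) (r s : ℕ) : List (ℕ × ℤ × ℕ × ℕ) :=
  frc r fun r => frc s fun s =>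
    Bool.rec (fc2 D r s (fnd s (row D r)) (fnd r (row D s))) []
      (Nat.beq (Nat.land (Nat.lor (Nat.shiftRight (msk (row D r)) s) (Nat.shiftRight (msk (row D s)) r)) 1) 0)

private theorem ct_eq (D : Cfsg.Lie.ChevalleyDatum) : D.commTerms = fct D := by
  funext r s
  rw [fct, frc_eq, frc_eq]
  cases h : Nat.beq (Nat.land (Nat.lor (Nat.shiftRight (msk (row D r)) s) (Nat.shiftRight (msk (row D s)) r)) 1) 0
  · show _ = fc2 D r s _ _
    rw [← ce_eq0, ← ce_eq0]
    unfold fc2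
    split
    · rename_i h1 h2
      unfold Cfsg.Lie.ChevalleyDatum.commTerms Cfsg.Lie.ChevalleyDatum.chainRoot Cfsg.Lie.ChevalleyDatum.chainM
      rw [h1, h2]; rfl
    · exact gct_eq D r s
  · have h1 : ((msk (row D r) >>> s ||| msk (row D s) >>> r)).testBit 0 = false := by
      have h2 : (msk (row D r) >>> s ||| msk (row D s) >>> r) &&& 1 = 0 := Nat.eq_of_beq_eq_true h
      rw [Nat.and_one_is_mod] at h2
      rw [Nat.testBit_zero, h2]; rfl
    rw [Nat.testBit_or, Bool.or_eq_false_iff, Nat.testBit_shiftRight, Nat.testBit_shiftRight, Nat.add_zero, Nat.add_zero] at h1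
    show _ = []
    unfold Cfsg.Lie.ChevalleyDatum.commTerms Cfsg.Lie.ChevalleyDatum.chainRoot Cfsg.Lie.ChevalleyDatum.chainM
    rw [ce_eq0 D r s, ce_eq0 D s r, fnd_nil h1.1, fnd_nil h1.2]; rfl

private theorem ct_fun : Cfsg.Lie.ChevalleyDatum.commTerms = fct := funext ct_eq

private noncomputable def fng (D : Cfsg.Lie.ChevalleyDatum) (r : ℕ) : ℕ := frc r (nth 0 D.negIdx.toList)

private theorem ng_eq (D : Cfsg.Lie.ChevalleyDatum) : D.neg = fng D := by
  funext r
  rw [fng, frc_eq]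
  exact nth_arr _ _ _

private noncomputable def fsi (D : Cfsg.Lie.ChevalleyDatum) (i : ℕ) : ℕ := frc i (nth 0 D.simpleIdx.toList)

private theorem si_eq (D : Cfsg.Lie.ChevalleyDatum) : D.simple = fsi D := by
  funext r
  rw [fsi, frc_eq]
  exact nth_arr _ _ _

private noncomputable def fca (D : Cfsg.Lie.ChevalleyDatum) (i s : ℕ) : ℤ :=
  frc i fun i => frc s (nth 0 (nth #[] D.cartanSR.toList i).toList)

private theorem ca_eq (D : Cfsg.Lie.ChevalleyDatum) : D.cartan = fca D := by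
  funext i s
  rw [fca, frc_eq, frc_eq, ← nth_arr, ← nth_arr]
  rfl

private noncomputable def frr (D : Cfsg.Lie.ChevalleyDatum) (i s : ℕ) : ℕ :=
  frc i fun i => frc s fun s => frc (fsi D i) fun p => frc (fng D p) fun q =>
    Bool.rec (Bool.rec
      (Int.rec (fun a => Nat.rec s (fun k _ => (fcr D q s (Nat.succ k)).getD s) a)
        (fun k => (fcr D p s (Nat.succ k)).getD s) (fca D i s))
      p (Nat.beq s q)) q (Nat.beq s p)

private theorem rr_eq (D : Cfsg.Lie.ChevalleyDatum) : D.reflectRoot = frr D := by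
  funext i s
  rw [frr, frc_eq, frc_eq, frc_eq, frc_eq, ← cr_eq, ← ng_eq, ← si_eq, ← ca_eq]
  unfold Cfsg.Lie.ChevalleyDatum.reflectRoot
  dsimp only
  by_cases h1 : s = D.simple i
  · rw [if_pos h1, Nat.beq_eq.mpr h1]
  rw [if_neg h1, Bool.eq_false_iff.2 fun h => h1 (Nat.eq_of_beq_eq_true h)]
  by_cases h2 : s = D.neg (D.simple i)
  · rw [if_pos h2, Nat.beq_eq.mpr h2]
  rw [if_neg h2, Bool.eq_false_iff.2 fun h => h2 (Nat.eq_of_beq_eq_true h)]
  generalize D.cartan i s = A
  rcases A with (_ | k) | k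
  · rfl
  · exact if_pos (Int.ofNat_succ_pos k)
  · rw [if_neg (Int.negSucc_lt_zero k).not_gt, if_pos (Int.negSucc_lt_zero k)]; rfl

private theorem rr_fun : Cfsg.Lie.ChevalleyDatum.reflectRoot = frr := funext rr_eq

private noncomputable def fgd {α : Type} (a : Array α) (n : ℕ) (d : α) : α := frc n (nth d a.toList)

private theorem gd_eq {α : Type} (a : Array α) (n : ℕ) (d : α) : a.getD n d = fgd a n d := by
  rw [fgd, frc_eq, nth_arr]

private theorem gd_fun : @Array.getD.{0} = @fgd := by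
  funext α a n d; exact gd_eq a n d

private noncomputable def fld {α : Type} (l : List α) (n : ℕ) (d : α) : α := frc n (nth d l)

private theorem ld_eq {α : Type} (l : List α) (n : ℕ) (d : α) : l.getD n d = fld l n d := by
  rw [fld, frc_eq, nth_eq]

private theorem ld_fun : @List.getD.{0} = @fld := by
  funext α a n d; exact ld_eq a n d

private noncomputable def dOf {P : Prop} (b : Bool) (h : b = true ↔ P) : Decidable P :=
  Bool.rec (motive := fun c => b = c → Decidable P) (fun e => isFalse fun hp => Bool.noConfusion (e.symm.trans (h.2 hp)))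
    (fun e => isTrue (h.1 e)) b rfl

private noncomputable def flb {α : Type} (e : α → α → Bool) (l : List α) : List α → Bool :=
  List.rec (motive := fun _ => List α → Bool) (fun m => List.rec true (fun _ _ _ => false) m)
    (fun a _ ih m => List.rec false (fun b m _ => Bool.rec false (ih m) (e a b)) m) l

private theorem fle_iff {α : Type} [H : DecidableEq α] (l m : List α) :
    flb (fun a b => @decide _ (H a b)) l m = true ↔ l = m := by
  induction l generalizing m with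
  | nil =>
    cases m with
    | nil => exact ⟨fun _ => rfl, fun _ => rfl⟩
    | cons b m => exact ⟨fun h => Bool.noConfusion h, fun h => nomatch h⟩
  | cons a l ih =>
    cases m with
    | nil => exact ⟨fun h => Bool.noConfusion h, fun h => nomatch h⟩
    | cons b m =>
      have e : ∀ a b : Bool, (Bool.rec false a b : Bool) = true ↔ b = true ∧ a = true := by decide
      exact (e _ _).trans ((and_congr decide_eq_true_iff (ih m)).trans List.cons_eq_cons.symm)

private theorem le_fun : @instDecidableEqList.{0} =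
    fun α H l m => dOf (flb (fun a b => @decide _ (H a b)) l m) (@fle_iff α H l m) := by
  funext α H l m; exact Subsingleton.elim _ _

private noncomputable def fal {α : Type} (l : List α) (p : α → Bool) : Bool :=
  List.rec true (fun a _ ih => Bool.rec false ih (p a)) l

private theorem al_fun : @List.all.{0} = @fal := by
  funext α l p
  induction l with
  | nil => rfl
  | cons a l ih => rw [List.all_cons, ih]; show _ = (Bool.rec false (fal l p) (p a) : Bool); cases p a <;> rfl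

private noncomputable def fem {α : Type} [BEq α] (a : α) (l : List α) : Bool :=
  List.rec false (fun b _ ih => Bool.rec ih true (a == b)) l

private theorem em_fun : @List.elem.{0} = @fem := by
  funext α _ a l
  induction l with
  | nil => rfl
  | cons b l ih => rw [List.elem_cons, ih]; show _ = (Bool.rec (fem a l) true (a == b) : Bool); cases a == b <;> rfl

private noncomputable def fmp {α β : Type} (f : α → β) (l : List α) : List β := List.rec [] (fun a _ ih => f a :: ih) l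

private theorem mp_fun : @List.map.{0, 0} = @fmp := by
  funext α β f l
  induction l with
  | nil => rfl
  | cons a l ih => rw [List.map_cons, ih]; rfl

private noncomputable def ffd {α : Type} (p : α → Bool) (l : List α) : Option α :=
  List.rec none (fun a _ ih => Bool.rec ih (some a) (p a)) l

private theorem fd_fun : @List.find?.{0} = @ffd := by
  funext α p l
  induction l with
  | nil => rfl
  | cons a l ih =>
    rw [List.find?_cons, ih]; show _ = (Bool.rec (ffd p l) (some a) (p a) : Option α); cases p a <;> rfl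

private noncomputable def fen (a : ℕ) (l : List ℕ) : Bool :=
  frc a fun a => List.rec false (fun b _ ih => Bool.rec ih true (Nat.beq a b)) l

private theorem bn_eq (a b : ℕ) : (a == b) = Nat.beq a b := by
  rw [Bool.eq_iff_iff, beq_iff_eq, Nat.beq_eq]

private theorem fen_eq (a : ℕ) (l : List ℕ) : List.elem a l = fen a l := by
  rw [fen, frc_eq]
  induction l with
  | nil => rfl
  | cons b l ih => rw [List.elem_cons, ih, bn_eq]; show _ = (Bool.rec _ true (Nat.beq a b) : Bool); cases Nat.beq a b <;> rfl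

private theorem en_fun : @List.elem ℕ instBEqOfDecidableEq = fen := by
  funext a l; exact fen_eq a l

private theorem dn_fun : instDecidableEqNat = fun a b => dOf (Nat.beq a b) Nat.beq_eq.to_iff := by
  funext a b; exact Subsingleton.elim _ _

private noncomputable def ibq (a b : ℤ) : Bool :=
  Int.rec (fun m => Int.rec (fun n => Nat.beq m n) (fun _ => false) b) (fun m => Int.rec (fun _ => false) (fun n => Nat.beq m n) b) a

private theorem ibq_iff (a b : ℤ) : ibq a b = true ↔ a = b := by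
  rcases a with m | m <;> rcases b with n | n
  · exact Nat.beq_eq.to_iff.trans ⟨fun h => h ▸ rfl, Int.ofNat.inj⟩
  · exact ⟨fun h => Bool.noConfusion h, fun h => nomatch h⟩
  · exact ⟨fun h => Bool.noConfusion h, fun h => nomatch h⟩
  · exact Nat.beq_eq.to_iff.trans ⟨fun h => h ▸ rfl, Int.negSucc.inj⟩

private theorem dz_fun : Int.instDecidableEq = fun a b => dOf (ibq a b) (ibq_iff a b) := by
  funext a b; exact Subsingleton.elim _ _

end Cfsg.Agent.H90F

-- part: H430/CfChevChk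
section
/-!
# Checks of the tables
-/

set_option autoImplicit false

namespace Cfsg.Agent.H430.CfChev

open Cfsg Cfsg.Lie Cfsg.Agent.ChevalleyStructure Cfsg.Agent.ChevalleyStructure.Elts

variable {D : ChevalleyDatum}

/-- check of the distances, all roots -/
def chkDistAll (D : ChevalleyDatum) (dl il : List ℕ) : Bool :=
  (List.range D.nroots).all fun r => Nat.beq r (D.nroots - 1) || (Nat.blt (il.getD r 0) D.rank &&
    Nat.beq (dl.getD (D.reflectRoot (il.getD r 0) r) 0 + 1) (dl.getD r 0))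

theorem distOk_all (hD : InList D) {dl il : List ℕ} (h : chkDistAll D dl il = true) :
    DistOk D (List.range D.nroots) (fun r => dl.getD r 0) where
  lt r hr := List.mem_range.1 hr
  top := List.mem_range.2 (by have := nroots_pos hD; omega)
  step r hr := by
    have h1 := List.all_eq_true.1 h r hr
    rw [Bool.or_eq_true, Bool.and_eq_true] at h1
    rcases h1 with h1 | ⟨h1, h2⟩
    · exact Or.inl (Nat.eq_of_beq_eq_true h1)
    · have hlt : il.getD r 0 < D.rank := (Nat.blt_eq ..).mp h1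
      exact Or.inr ⟨il.getD r 0, hlt, List.mem_range.2 (Reach.reflect_lt hD hlt (List.mem_range.1 hr)),
        Nat.eq_of_beq_eq_true h2⟩
  closed r hr i hi := List.mem_range.2 (Reach.reflect_lt hD hi (List.mem_range.1 hr))

/-- check of the distances -/
def chkDist (D : ChevalleyDatum) (O dl il : List ℕ) : Bool :=
  (O.all fun r => Nat.blt r D.nroots && (Nat.beq r (D.nroots - 1) || (Nat.blt (il.getD r 0) D.rank &&
    Nat.beq (dl.getD (D.reflectRoot (il.getD r 0) r) 0 + 1) (dl.getD r 0))) &&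
    (List.range D.rank).all fun i => O.contains (D.reflectRoot i r)) && O.contains (D.nroots - 1)

theorem distOk {O dl il : List ℕ} (h : chkDist D O dl il = true) :
    DistOk D O (fun r => dl.getD r 0) := by
  unfold chkDist at h
  rw [Bool.and_eq_true] at h
  obtain ⟨h, h0⟩ := h
  have h1 : ∀ r ∈ O, r < D.nroots ∧ (r = D.nroots - 1 ∨ (il.getD r 0 < D.rank ∧
      dl.getD (D.reflectRoot (il.getD r 0) r) 0 + 1 = dl.getD r 0)) ∧ ∀ i < D.rank, D.reflectRoot i r ∈ O := by
    intro r hr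
    have h1 := List.all_eq_true.1 h r hr
    rw [Bool.and_eq_true, Bool.and_eq_true, Bool.or_eq_true, Bool.and_eq_true] at h1
    obtain ⟨⟨h1, h2⟩, h3⟩ := h1
    refine ⟨(Nat.blt_eq ..).mp h1, ?_, fun i hi => ?_⟩
    · rcases h2 with h2 | ⟨h2, h4⟩
      · exact Or.inl (Nat.eq_of_beq_eq_true h2)
      · exact Or.inr ⟨(Nat.blt_eq ..).mp h2, Nat.eq_of_beq_eq_true h4⟩
    · exact List.contains_iff_mem.1 (List.all_eq_true.1 h3 i (List.mem_range.2 hi))
  refine ⟨fun r hr => (h1 r hr).1, List.contains_iff_mem.1 h0, fun r hr => ?_, fun r hr i hi => (h1 r hr).2.2 i hi⟩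
  rcases (h1 r hr).2.1 with h2 | ⟨h2, h3⟩
  · exact Or.inl h2
  · exact Or.inr ⟨_, h2, (h1 r hr).2.2 _ h2, h3⟩

/-- check of the centre, by the commutator terms -/
def chkCen (D : ChevalleyDatum) (cs : List ℤ) (al : List ℕ) : Bool :=
  (List.range (D.nroots / 2 - 1)).all fun j =>
    let k := D.nroots / 2 + j
    let a := al.getD j 0
    Nat.ble (D.nroots / 2) a && Nat.blt a D.nroots && !(Nat.beq k a) &&
    match D.commTerms a k with
    | (m, c, 1, 1) :: rest => cs.contains c && (rest.all fun q => Nat.blt m q.1) &&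
        (List.range D.nroots).all fun r => !(Nat.blt k r) || Nat.beq r a || (D.commTerms a r).all fun q => Nat.blt m q.1
    | _ => false

theorem cenOk (hD : InList D) {cs : List ℤ} {al : List ℕ} (h : chkCen D cs al = true) :
    CenOk D cs (fun k => al.getD (k - D.nroots / 2) 0) := by
  have he := UnipOrd.nroots_even hD
  have key : ∀ k, D.nroots / 2 ≤ k → k + 1 < D.nroots →
      (Nat.ble (D.nroots / 2) (al.getD (k - D.nroots / 2) 0) && Nat.blt (al.getD (k - D.nroots / 2) 0) D.nroots &&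
        !(Nat.beq k (al.getD (k - D.nroots / 2) 0)) &&
      match D.commTerms (al.getD (k - D.nroots / 2) 0) k with
      | (m, c, 1, 1) :: rest => cs.contains c && (rest.all fun q => Nat.blt m q.1) &&
          (List.range D.nroots).all fun r => !(Nat.blt k r) || Nat.beq r (al.getD (k - D.nroots / 2) 0) ||
            (D.commTerms (al.getD (k - D.nroots / 2) 0) r).all fun q => Nat.blt m q.1
      | _ => false) = true := by
    intro k h1 h2
    have h3 := List.all_eq_true.1 h (k - D.nroots / 2) (List.mem_range.2 (by omega))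
    have h4 : D.nroots / 2 + (k - D.nroots / 2) = k := by omega
    simp only [h4] at h3
    exact h3
  constructor
  · intro k h1 h2
    have h3 := key k h1 h2
    rw [Bool.and_eq_true, Bool.and_eq_true, Bool.and_eq_true] at h3
    obtain ⟨⟨⟨h3, h4⟩, h5⟩, -⟩ := h3
    refine ⟨Nat.le_of_ble_eq_true h3, (Nat.blt_eq ..).mp h4, fun h6 => ?_⟩
    rw [← h6] at h5
    simp at h5
  · intro k h1 h2
    have h3 := key k h1 h2
    rw [Bool.and_eq_true] at h3
    obtain ⟨-, h3⟩ := h3
    split at h3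
    · rename_i m c rest heq
      rw [Bool.and_eq_true, Bool.and_eq_true] at h3
      obtain ⟨⟨h4, h5⟩, h6⟩ := h3
      refine ⟨m, c, rest, heq, List.contains_iff_mem.1 h4, fun q hq => ?_, fun r hr1 hr2 hr3 q hq => ?_⟩
      · exact (Nat.blt_eq ..).mp (List.all_eq_true.1 h5 q hq)
      · have h7 := List.all_eq_true.1 h6 r (List.mem_range.2 hr2)
        rw [Bool.or_eq_true, Bool.or_eq_true] at h7
        rcases h7 with (h7 | h7) | h7
        · rw [Bool.not_eq_true', ← Bool.not_eq_true, Nat.blt_eq] at h7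
          exact absurd hr1 h7
        · exact absurd (Nat.eq_of_beq_eq_true h7) hr3
        · exact (Nat.blt_eq ..).mp (List.all_eq_true.1 h7 q hq)
    · exact absurd h3 (by simp)

/-! ### Fast version for the simply laced types -/

/-- all chains have length at most one -/
def chkLen (D : ChevalleyDatum) : Bool := D.chain.toList.all fun row => row.toList.all fun e => Nat.ble e.2.toList.length 1

theorem length_le (h : chkLen D = true) (r s : ℕ) : (D.chainEntry r s).length ≤ 1 := by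
  unfold ChevalleyDatum.chainEntry
  split
  · simp
  · rename_i e he
    have h1 := List.mem_of_find?_eq_some he
    by_cases hr : r < D.chain.size
    · have h2 : D.chain.getD r #[] ∈ D.chain.toList := by
        rw [Array.getD_eq_getD_getElem?, Array.getElem?_eq_getElem hr]
        exact Array.getElem_mem_toList hr
      have h3 := List.all_eq_true.1 h _ h2
      exact Nat.le_of_ble_eq_true (List.all_eq_true.1 h3 _ h1)
    · have h2 : D.chain.getD r #[] = #[] := by
        rw [Array.getD_eq_getD_getElem?, Array.getElem?_eq_none (by omega)]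
        rfl
      rw [h2] at h1
      simp at h1

theorem chainRoot_none (h : chkLen D = true) (r s i : ℕ) (hi : 2 ≤ i) : D.chainRoot r s i = none := by
  unfold ChevalleyDatum.chainRoot
  rw [List.getElem?_eq_none (by have := length_le h r s; omega)]
  rfl

theorem commTerms_eq (h : chkLen D = true) (r s : ℕ) :
    D.commTerms r s = (D.chainEntry r s).map fun q => (q.1, q.2, 1, 1) := by
  unfold ChevalleyDatum.commTerms
  simp only [chainRoot_none h _ _ _ (le_refl 2), chainRoot_none h _ _ 3 (by norm_num)]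
  have h1 := length_le h r s
  unfold ChevalleyDatum.chainRoot ChevalleyDatum.chainM
  rcases hE : D.chainEntry r s with _ | ⟨q, l⟩
  · simp [hE]
  · rw [hE] at h1
    have : l = [] := by
      rcases l with _ | ⟨a, l⟩
      · rfl
      · simp at h1
    subst this
    simp [hE]

/-- fast check of the centre -/
def chkCenFast (D : ChevalleyDatum) (al : List ℕ) : Bool :=
  (List.range (D.nroots / 2 - 1)).all fun j =>
    let k := D.nroots / 2 + j
    let a := al.getD j 0
    let row := (D.chain.getD a #[]).toList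
    Nat.ble (D.nroots / 2) a && Nat.blt a D.nroots && !(Nat.beq k a) &&
    match row.find? (fun e => e.1 = k) with
    | some e => match e.2.toList with
       | [(m, c)] => [1, -1].contains c && row.all fun e => !(Nat.blt k e.1) || e.2.toList.all fun q => Nat.blt m q.1
       | _ => false
    | none => false

theorem cenOk_fast (hD : InList D) (hlen : chkLen D = true) {al : List ℕ} (h : chkCenFast D al = true) :
    CenOk D [1, -1] (fun k => al.getD (k - D.nroots / 2) 0) := by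
  have he := UnipOrd.nroots_even hD
  have key : ∀ k, D.nroots / 2 ≤ k → k + 1 < D.nroots →
      (Nat.ble (D.nroots / 2) (al.getD (k - D.nroots / 2) 0) && Nat.blt (al.getD (k - D.nroots / 2) 0) D.nroots &&
        !(Nat.beq k (al.getD (k - D.nroots / 2) 0)) &&
      match (D.chain.getD (al.getD (k - D.nroots / 2) 0) #[]).toList.find? (fun e => e.1 = k) with
      | some e => match e.2.toList with
       | [(m, c)] => [1, -1].contains c && (D.chain.getD (al.getD (k - D.nroots / 2) 0) #[]).toList.all fun e =>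
          !(Nat.blt k e.1) || e.2.toList.all fun q => Nat.blt m q.1
       | _ => false
      | none => false) = true := by
    intro k h1 h2
    have h3 := List.all_eq_true.1 h (k - D.nroots / 2) (List.mem_range.2 (by omega))
    have h4 : D.nroots / 2 + (k - D.nroots / 2) = k := by omega
    simp only [h4] at h3
    exact h3
  constructor
  · intro k h1 h2
    have h3 := key k h1 h2
    rw [Bool.and_eq_true, Bool.and_eq_true, Bool.and_eq_true] at h3
    obtain ⟨⟨⟨h3, h4⟩, h5⟩, -⟩ := h3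
    refine ⟨Nat.le_of_ble_eq_true h3, (Nat.blt_eq ..).mp h4, fun h6 => ?_⟩
    rw [← h6] at h5
    simp at h5
  · intro k h1 h2
    have h3 := key k h1 h2
    rw [Bool.and_eq_true] at h3
    obtain ⟨-, h3⟩ := h3
    split at h3
    · rename_i e he
      split at h3
      · rename_i m c heq
        rw [Bool.and_eq_true] at h3
        obtain ⟨h4, h5⟩ := h3
        refine ⟨m, c, [], ?_, List.contains_iff_mem.1 h4, fun q hq => absurd hq (by simp), fun r hr1 hr2 hr3 q hq => ?_⟩
        · rw [commTerms_eq hlen]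
          unfold ChevalleyDatum.chainEntry
          rw [he]
          show e.2.toList.map _ = _
          rw [heq]
          rfl
        · rw [commTerms_eq hlen] at hq
          obtain ⟨q', hq', rfl⟩ := List.mem_map.1 hq
          unfold ChevalleyDatum.chainEntry at hq'
          split at hq'
          · simp at hq'
          · rename_i e' he'
            have h6 := List.mem_of_find?_eq_some he'
            have h7 := List.find?_some he'
            have h8 := List.all_eq_true.1 h5 _ h6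
            rw [Bool.or_eq_true] at h8
            rcases h8 with h8 | h8
            · rw [Bool.not_eq_true', ← Bool.not_eq_true, Nat.blt_eq] at h8
              have h9 : e'.1 = r := by simpa using h7
              exact absurd (h9 ▸ hr1) h8
            · exact (Nat.blt_eq ..).mp (List.all_eq_true.1 h8 q' hq')
      · exact absurd h3 (by simp)
    · exact absurd h3 (by simp)

end Cfsg.Agent.H430.CfChev
end

-- part: H430/CfChevTab
section
/-!
# Tables
-/

set_option autoImplicit false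
set_option maxRecDepth 100000

namespace Cfsg.Agent.H430.CfChev

open Cfsg Cfsg.Lie Cfsg.Agent.ChevalleyStructure Cfsg.Agent.ChevalleyStructure.Elts

universe u

def OG2 : List ℕ := [0, 1, 5, 6, 10, 11]
def dlG2 : List ℕ := [5, 4, 0, 0, 0, 3, 2, 0, 0, 0, 1, 0]
def ilG2 : List ℕ := [1, 0, 0, 0, 0, 1, 0, 0, 0, 0, 1, 0]
def alG2 : List ℕ := [7, 6, 9, 7, 6]
def LG2 : List ℕ := [5, 4, 3, 2, 1, 0]

theorem chkdG2 : chkDist chevG2 OG2 dlG2 ilG2 = true := by decide +kernel

theorem chkcG2 : chkCen chevG2 [1, -1, 3, -3] alG2 = true := by decide +kernel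

theorem LG2_eq : (OG2.map fun r => dlG2.getD r 0) = LG2 := by decide +kernel

theorem LG2_le : ∀ x ∈ LG2, x ≤ 5 := by decide +kernel

theorem carryG2 : carry LG2 5 ≤ 2 := by decide +kernel

theorem inG2 : InList chevG2 := by simp [InList]

/-- type G2 -/
theorem hasInvG2 {F : Type u} [Field F] [Finite F] (hp : (3 : F) ≠ 0) :
    CfBase.HasInv ↥(chevG2.group F) (2 * Nat.card F ^ 5) :=
  hasInv' inG2 (distOk chkdG2) (cenOk inG2 chkcG2) (by
    intro c hc
    simp only [List.mem_cons, List.not_mem_nil, or_false] at hc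
    rcases hc with rfl | rfl | rfl | rfl <;> simp [hp]) LG2_eq LG2_le carryG2

def OD4 : List ℕ := List.range chevD4.nroots
def dlD4 : List ℕ := [9, 8, 7, 7, 6, 5, 7, 6, 6, 5, 5, 5, 4, 4, 4, 3, 3, 2, 4, 3, 2, 2, 1, 0]
def ilD4 : List ℕ := [1, 2, 0, 3, 0, 0, 3, 2, 1, 1, 2, 3, 1, 1, 3, 0, 0, 0, 1, 2, 2, 3, 1, 0]
def alD4 : List ℕ := [14, 14, 12, 13, 12, 18, 14, 12, 13, 12, 14]
def LD4 : List ℕ := [9, 8, 7, 7, 6, 5, 7, 6, 6, 5, 5, 5, 4, 4, 4, 3, 3, 2, 4, 3, 2, 2, 1, 0]

theorem chkdD4 : chkDistAll chevD4 dlD4 ilD4 = true := by decide +kernel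

theorem chklD4 : chkLen chevD4 = true := by decide +kernel

theorem chkcD4 : chkCenFast chevD4 alD4 = true := by decide +kernel

theorem LD4_eq : (OD4.map fun r => dlD4.getD r 0) = LD4 := by decide +kernel

theorem LD4_le : ∀ x ∈ LD4, x ≤ 9 := by decide +kernel

theorem carryD4 : carry LD4 9 ≤ 4 := by decide +kernel

theorem inD4 : InList chevD4 := by simp [InList]

/-- type D4 -/
theorem hasInvD4 {F : Type u} [Field F] [Finite F] : CfBase.HasInv ↥(chevD4.group F) (4 * Nat.card F ^ 9) :=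
  hasInv' inD4 (distOk_all inD4 chkdD4) (cenOk_fast inD4 chklD4 chkcD4) (by
    intro c hc
    simp only [List.mem_cons, List.not_mem_nil, or_false] at hc
    rcases hc with rfl | rfl <;> simp) LD4_eq LD4_le carryD4

def OF4 : List ℕ := [0, 1, 2, 4, 5, 6, 15, 16, 17, 21, 22, 23, 24, 25, 26, 30, 31, 32, 41, 42, 43, 45, 46, 47]
def dlF4 : List ℕ := [15, 14, 13, 0, 12, 11, 10, 0, 0, 0, 0, 0, 0, 0, 0, 11, 10, 9, 0, 0, 0, 9, 8, 8, 7, 7, 6, 0, 0, 0, 6, 5, 4, 0, 0, 0, 0, 0, 0, 0, 0, 5, 4, 3, 0, 2, 1, 0]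
def ilF4 : List ℕ := [3, 2, 1, 0, 0, 0, 0, 0, 0, 0, 0, 0, 0, 0, 0, 2, 3, 1, 0, 0, 0, 2, 2, 3, 2, 3, 1, 0, 0, 0, 0, 0, 0, 0, 0, 0, 0, 0, 0, 0, 0, 3, 2, 1, 0, 2, 3, 0]
def alF4 : List ℕ := [25, 24, 27, 25, 24, 27, 24, 25, 33, 27, 25, 24, 27, 24, 25, 27, 33, 24, 25, 27, 27, 25, 24]
def LF4 : List ℕ := [15, 14, 13, 12, 11, 10, 11, 10, 9, 9, 8, 8, 7, 7, 6, 6, 5, 4, 5, 4, 3, 2, 1, 0]

theorem chkdF4 : chkDist chevF4 OF4 dlF4 ilF4 = true := by (delta Cfsg.Agent.H430.CfChev.chkDist List.contains; rewrite [H90F.en_fun, H90F.rr_fun, H90F.ld_fun, H90F.al_fun]; decide +kernel)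

theorem chkcF4 : chkCen chevF4 [1, -1, 2, -2] alF4 = true := by (delta List.contains Cfsg.Agent.H430.CfChev.chkCen Cfsg.Agent.H430.CfChev.chkCen.match_1; rewrite [H90F.dn_fun, H90F.dz_fun, H90F.ct_fun, H90F.ld_fun, H90F.al_fun, H90F.em_fun]; decide +kernel)

theorem LF4_eq : (OF4.map fun r => dlF4.getD r 0) = LF4 := by decide +kernel

theorem LF4_le : ∀ x ∈ LF4, x ≤ 15 := by decide +kernel

theorem carryF4 : carry LF4 15 ≤ 3 := by decide +kernel

theorem inF4 : InList chevF4 := by simp [InList]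

/-- type F4 -/
theorem hasInvF4 {F : Type u} [Field F] [Finite F] (hp : (2 : F) ≠ 0) :
    CfBase.HasInv ↥(chevF4.group F) (3 * Nat.card F ^ 15) :=
  hasInv' inF4 (distOk chkdF4) (cenOk inF4 chkcF4) (by
    intro c hc
    simp only [List.mem_cons, List.not_mem_nil, or_false] at hc
    rcases hc with rfl | rfl | rfl | rfl <;> simp [hp]) LF4_eq LF4_le carryF4

def OE6 : List ℕ := List.range chevE6.nroots
def dlE6 : List ℕ := [21, 20, 19, 18, 17, 18, 17, 16, 16, 15, 14, 15, 14, 13, 12, 11, 17, 16, 15, 15, 14, 13, 14, 13, 12, 11, 14, 13, 12, 11, 13, 12, 11, 12, 11, 11, 10, 10, 9, 10, 9, 8, 10, 9, 8, 7, 10, 9, 8, 7, 8, 7, 6, 6, 5, 4, 10, 9, 8, 7, 6, 7, 6, 5, 5, 4, 3, 4, 3, 2, 1, 0]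
def ilE6 : List ℕ := [1, 3, 4, 2, 2, 0, 5, 0, 0, 4, 0, 5, 0, 3, 0, 0, 4, 3, 3, 5, 2, 1, 1, 4, 1, 1, 2, 4, 2, 2, 5, 3, 3, 4, 4, 5, 4, 5, 3, 4, 2, 1, 0, 0, 5, 0, 3, 2, 5, 2, 0, 3, 0, 0, 4, 0, 2, 3, 1, 1, 1, 4, 5, 3, 2, 2, 2, 5, 4, 3, 1, 0]
def alE6 : List ℕ := [37, 36, 39, 37, 36, 42, 39, 37, 36, 46, 39, 37, 36, 42, 37, 36, 39, 36, 37, 56, 42, 39, 37, 36, 46, 37, 36, 39, 36, 37, 42, 36, 37, 39, 46]
def LE6 : List ℕ := [21, 20, 19, 18, 17, 18, 17, 16, 16, 15, 14, 15, 14, 13, 12, 11, 17, 16, 15, 15, 14, 13, 14, 13, 12, 11, 14, 13, 12, 11, 13, 12, 11, 12, 11, 11, 10, 10, 9, 10, 9, 8, 10, 9, 8, 7, 10, 9, 8, 7, 8, 7, 6, 6, 5, 4, 10, 9, 8, 7, 6, 7, 6, 5, 5, 4, 3, 4, 3, 2, 1, 0]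

theorem chkdE6 : chkDistAll chevE6 dlE6 ilE6 = true := by (delta Cfsg.Agent.H430.CfChev.chkDistAll; rewrite [H90F.rr_fun, H90F.ld_fun, H90F.al_fun]; decide +kernel)

theorem chklE6 : chkLen chevE6 = true := by decide +kernel

theorem chkcE6 : chkCenFast chevE6 alE6 = true := by decide +kernel

theorem LE6_eq : (OE6.map fun r => dlE6.getD r 0) = LE6 := by decide +kernel

theorem LE6_le : ∀ x ∈ LE6, x ≤ 21 := by decide +kernel

theorem carryE6 : carry LE6 21 ≤ 3 := by decide +kernel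

theorem inE6 : InList chevE6 := by simp [InList]

/-- type E6 -/
theorem hasInvE6 {F : Type u} [Field F] [Finite F] : CfBase.HasInv ↥(chevE6.group F) (3 * Nat.card F ^ 21) :=
  hasInv' inE6 (distOk_all inE6 chkdE6) (cenOk_fast inE6 chklE6 chkcE6) (by
    intro c hc
    simp only [List.mem_cons, List.not_mem_nil, or_false] at hc
    rcases hc with rfl | rfl <;> simp) LE6_eq LE6_le carryE6

def OE7 : List ℕ := List.range chevE7.nroots
def dlE7 : List ℕ := [33, 32, 31, 30, 29, 28, 27, 29, 28, 27, 26, 27, 26, 25, 25, 24, 23, 26, 25, 24, 24, 23, 22, 23, 22, 21, 20, 22, 21, 20, 19, 18, 17, 25, 24, 23, 23, 22, 21, 22, 21, 20, 19, 21, 20, 19, 18, 17, 21, 20, 19, 18, 17, 20, 19, 18, 17, 19, 18, 17, 18, 17, 17, 16, 16, 15, 16, 15, 14, 16, 15, 14, 13, 16, 15, 14, 13, 12, 16, 15, 14, 13, 12, 14, 13, 12, 11, 12, 11, 10, 10, 9, 8, 16, 15, 14, 13, 12, 11, 13, 12, 11, 10, 11, 10, 9, 9, 8, 7, 10, 9, 8, 8, 7, 6, 7, 6, 5, 4, 6, 5, 4, 3, 2, 1, 0]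
def ilE7 : List ℕ := [0, 2, 3, 1, 1, 6, 1, 4, 5, 3, 3, 2, 6, 2, 2, 5, 2, 0, 4, 0, 6, 3, 0, 0, 5, 0, 1, 6, 0, 4, 0, 0, 0, 5, 6, 4, 3, 5, 3, 6, 2, 4, 2, 1, 5, 1, 1, 1, 2, 5, 2, 3, 2, 6, 3, 4, 3, 4, 5, 4, 6, 5, 6, 5, 4, 4, 3, 6, 3, 2, 5, 2, 1, 0, 4, 1, 6, 0, 3, 4, 2, 6, 2, 0, 5, 3, 0, 0, 6, 0, 0, 5, 0, 2, 3, 1, 5, 1, 1, 4, 3, 6, 3, 2, 4, 2, 6, 2, 2, 5, 6, 4, 3, 5, 3, 1, 1, 1, 1, 6, 5, 4, 3, 2, 0, 0]
def alE7 : List ℕ := [64, 63, 66, 64, 63, 69, 66, 64, 63, 73, 69, 66, 64, 63, 78, 69, 66, 64, 63, 73, 66, 64, 63, 69, 64, 63, 66, 63, 64, 93, 73, 69, 66, 64, 63, 78, 66, 64, 63, 69, 64, 63, 66, 63, 64, 73, 64, 63, 66, 63, 64, 69, 63, 64, 66, 78, 63, 64, 66, 69, 73, 93]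
def LE7 : List ℕ := [33, 32, 31, 30, 29, 28, 27, 29, 28, 27, 26, 27, 26, 25, 25, 24, 23, 26, 25, 24, 24, 23, 22, 23, 22, 21, 20, 22, 21, 20, 19, 18, 17, 25, 24, 23, 23, 22, 21, 22, 21, 20, 19, 21, 20, 19, 18, 17, 21, 20, 19, 18, 17, 20, 19, 18, 17, 19, 18, 17, 18, 17, 17, 16, 16, 15, 16, 15, 14, 16, 15, 14, 13, 16, 15, 14, 13, 12, 16, 15, 14, 13, 12, 14, 13, 12, 11, 12, 11, 10, 10, 9, 8, 16, 15, 14, 13, 12, 11, 13, 12, 11, 10, 11, 10, 9, 9, 8, 7, 10, 9, 8, 8, 7, 6, 7, 6, 5, 4, 6, 5, 4, 3, 2, 1, 0]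

theorem chkdE7 : chkDistAll chevE7 dlE7 ilE7 = true := by (delta Cfsg.Agent.H430.CfChev.chkDistAll; rewrite [H90F.rr_fun, H90F.ld_fun, H90F.al_fun]; decide +kernel)

theorem chklE7 : chkLen chevE7 = true := by decide +kernel

theorem chkcE7 : chkCenFast chevE7 alE7 = true := by (delta List.contains Cfsg.Agent.H430.CfChev.chkCenFast; rewrite [H90F.dn_fun, H90F.dz_fun, H90F.gd_fun, H90F.ld_fun, H90F.al_fun, H90F.em_fun, H90F.fd_fun]; decide +kernel)

theorem LE7_eq : (OE7.map fun r => dlE7.getD r 0) = LE7 := by decide +kernel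

theorem LE7_le : ∀ x ∈ LE7, x ≤ 33 := by decide +kernel

theorem carryE7 : carry LE7 33 ≤ 3 := by decide +kernel

theorem inE7 : InList chevE7 := by simp [InList]

/-- type E7 -/
theorem hasInvE7 {F : Type u} [Field F] [Finite F] : CfBase.HasInv ↥(chevE7.group F) (3 * Nat.card F ^ 33) :=
  hasInv' inE7 (distOk_all inE7 chkdE7) (cenOk_fast inE7 chklE7 chkcE7) (by
    intro c hc
    simp only [List.mem_cons, List.not_mem_nil, or_false] at hc
    rcases hc with rfl | rfl <;> simp) LE7_eq LE7_le carryE7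

def OE8 : List ℕ := List.range chevE8.nroots
def dlE8 : List ℕ := [57, 56, 55, 54, 53, 52, 51, 51, 50, 49, 48, 47, 46, 45, 50, 49, 48, 47, 46, 45, 44, 47, 46, 45, 44, 43, 45, 44, 43, 42, 43, 42, 41, 41, 40, 39, 44, 43, 42, 41, 42, 41, 40, 40, 39, 38, 41, 40, 39, 39, 38, 37, 38, 37, 36, 35, 40, 39, 38, 38, 37, 36, 37, 36, 35, 34, 36, 35, 34, 33, 32, 35, 34, 33, 32, 31, 30, 29, 39, 38, 37, 37, 36, 35, 36, 35, 34, 33, 35, 34, 33, 32, 31, 34, 33, 32, 31, 30, 29, 34, 33, 32, 31, 30, 29, 33, 32, 31, 30, 29, 32, 31, 30, 29, 31, 30, 29, 30, 29, 29, 28, 28, 27, 28, 27, 26, 28, 27, 26, 25, 28, 27, 26, 25, 24, 28, 27, 26, 25, 24, 23, 28, 27, 26, 25, 24, 23, 26, 25, 24, 23, 22, 24, 23, 22, 21, 22, 21, 20, 20, 19, 18, 28, 27, 26, 25, 24, 23, 22, 25, 24, 23, 22, 21, 23, 22, 21, 20, 21, 20, 19, 19, 18, 17, 22, 21, 20, 19, 20, 19, 18, 18, 17, 16, 19, 18, 17, 17, 16, 15, 16, 15, 14, 13, 18, 17, 16, 16, 15, 14, 15, 14, 13, 12, 14, 13, 12, 11, 10, 13, 12, 11, 10,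 9, 8, 7, 12, 11, 10, 9, 8, 7, 6, 6, 5, 4, 3, 2, 1, 0]
def ilE8 : List ℕ := [7, 6, 5, 4, 3, 1, 0, 2, 0, 0, 5, 0, 7, 0, 1, 3, 2, 2, 6, 2, 2, 4, 5, 3, 7, 3, 1, 6, 4, 1, 1, 7, 1, 1, 6, 1, 5, 4, 7, 4, 6, 3, 5, 7, 3, 3, 2, 7, 2, 4, 6, 2, 7, 2, 5, 2, 0, 5, 0, 7, 4, 0, 3, 6, 3, 0, 7, 0, 5, 0, 1, 0, 6, 0, 4, 0, 0, 0, 6, 7, 5, 4, 6, 4, 7, 3, 5, 3, 2, 6, 2, 4, 2, 7, 1, 5, 1, 1, 1, 7, 2, 5, 2, 3, 2, 3, 6, 3, 4, 3, 7, 4, 5, 4, 5, 6, 5, 7, 6, 7, 6, 5, 5, 4, 7, 4, 3, 6, 3, 3, 2, 5, 2, 7, 1, 0, 4, 1, 6, 1, 0, 3, 4, 2, 6, 2, 2, 0, 5, 3, 7, 0, 0, 6, 0, 4, 0, 7, 0, 0, 6, 0, 2, 3, 1, 5, 1, 7, 1, 4, 3, 6, 3, 3, 2, 4, 7, 2, 6, 2, 5, 7, 2, 2, 5, 6, 4, 4, 3, 7, 3, 3, 6, 3, 1, 5, 1, 7, 4, 1, 1, 6, 1, 1, 6, 7, 5, 4, 6, 4, 7, 3, 5, 3, 2, 6, 2, 4, 2, 0, 0, 0, 0, 0, 0, 0, 7, 6, 5, 4, 3, 1, 1, 2, 3, 4, 5, 6, 7, 0]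
def alE8 : List ℕ := [121, 120, 123, 121, 120, 126, 123, 121, 120, 130, 126, 123, 121, 120, 135, 130, 126, 123, 121, 120, 141, 130, 126, 123, 121, 120, 135, 126, 123, 121, 120, 130, 123, 121, 120, 126, 121, 120, 123, 120, 121, 162, 135, 130, 126, 123, 121, 120, 141, 126, 123, 121, 120, 130, 123, 121, 120, 126, 121, 120, 123, 120, 121, 135, 123, 121, 120, 126, 121, 120, 123, 120, 121, 130, 121, 120, 123, 120, 121, 126, 120, 121, 123, 141, 121, 120, 123, 120, 121, 126, 120, 121, 123, 130, 120, 121, 123, 126, 135, 120, 121, 123, 126, 130, 141, 162, 120, 121, 123, 126, 130, 135, 141, 135, 130, 126, 123, 121, 120]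
def LE8 : List ℕ := [57, 56, 55, 54, 53, 52, 51, 51, 50, 49, 48, 47, 46, 45, 50, 49, 48, 47, 46, 45, 44, 47, 46, 45, 44, 43, 45, 44, 43, 42, 43, 42, 41, 41, 40, 39, 44, 43, 42, 41, 42, 41, 40, 40, 39, 38, 41, 40, 39, 39, 38, 37, 38, 37, 36, 35, 40, 39, 38, 38, 37, 36, 37, 36, 35, 34, 36, 35, 34, 33, 32, 35, 34, 33, 32, 31, 30, 29, 39, 38, 37, 37, 36, 35, 36, 35, 34, 33, 35, 34, 33, 32, 31, 34, 33, 32, 31, 30, 29, 34, 33, 32, 31, 30, 29, 33, 32, 31, 30, 29, 32, 31, 30, 29, 31, 30, 29, 30, 29, 29, 28, 28, 27, 28, 27, 26, 28, 27, 26, 25, 28, 27, 26, 25, 24, 28, 27, 26, 25, 24, 23, 28, 27, 26, 25, 24, 23, 26, 25, 24, 23, 22, 24, 23, 22, 21, 22, 21, 20, 20, 19, 18, 28, 27, 26, 25, 24, 23, 22, 25, 24, 23, 22, 21, 23, 22, 21, 20, 21, 20, 19, 19, 18, 17, 22, 21, 20, 19, 20, 19, 18, 18, 17, 16, 19, 18, 17, 17, 16, 15, 16, 15, 14, 13, 18, 17, 16, 16, 15, 14, 15, 14, 13, 12, 14, 13, 12, 11, 10, 13, 12, 11, 10, 9, 8, 7, 12, 11, 10, 9, 8, 7, 6, 6, 5, 4, 3,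 2, 1, 0]

theorem chkdE8 : chkDistAll chevE8 dlE8 ilE8 = true := by (delta Cfsg.Agent.H430.CfChev.chkDistAll; rewrite [H90F.rr_fun, H90F.ld_fun, H90F.al_fun]; decide +kernel)

theorem chklE8 : chkLen chevE8 = true := by decide +kernel

theorem chkcE8 : chkCenFast chevE8 alE8 = true := by (delta List.contains Cfsg.Agent.H430.CfChev.chkCenFast; rewrite [H90F.dn_fun, H90F.dz_fun, H90F.gd_fun, H90F.ld_fun, H90F.al_fun, H90F.em_fun, H90F.fd_fun]; decide +kernel)

theorem LE8_eq : (OE8.map fun r => dlE8.getD r 0) = LE8 := by (refine of_decide_eq_true ?_; rewrite [H90F.dn_fun, H90F.ld_fun, H90F.le_fun, H90F.mp_fun]; decide +kernel)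

theorem LE8_le : ∀ x ∈ LE8, x ≤ 57 := by decide +kernel

theorem carryE8 : carry LE8 57 ≤ 3 := by decide +kernel

theorem inE8 : InList chevE8 := by simp [InList]

/-- type E8 -/
theorem hasInvE8 {F : Type u} [Field F] [Finite F] : CfBase.HasInv ↥(chevE8.group F) (3 * Nat.card F ^ 57) :=
  hasInv' inE8 (distOk_all inE8 chkdE8) (cenOk_fast inE8 chklE8 chkcE8) (by
    intro c hc
    simp only [List.mem_cons, List.not_mem_nil, or_false] at hc
    rcases hc with rfl | rfl <;> simp) LE8_eq LE8_le carryE8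

end Cfsg.Agent.H430.CfChev
end

private theorem dce_e3d215bf42c7 : _root_.True := by
  try have : _root_.True := by simp only [_root_.Cfsg.Agent.H430.CfChev.chkCenFast._sparseCasesOn_1.else_eq]
  try have : _root_.True := by simp only [_root_.Cfsg.Agent.H430.CfChev.chkCen._sparseCasesOn_1.else_eq]
  exact _root_.True.intro
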