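import Cfsg.Agent.H430.CfChev
import Cfsg.Agent.H70.OutCount
import Cfsg.Agent.H69.OutGF
import Cfsg.Agent.H934.HeisE6_m3
import Cfsg.Agent.H934.HeisF4Even
import Cfsg.Agent.FastGrp
import Cfsg.Agent.Prune
set_option linter.all false
prune_inst 0x7ff1fff95fb8cddfdfff7e7ffef7dffdd4eeffffffdfff8bffece3ff8fdf4b02f9c5fb859feb5aff0ff7629430f87b93fffffeffef6ffc7ffffdfff41ffbffdfedf6b58851f58c340fbc0fff03f07f8e7f3fffffffffdfffffffffffffffffbeffffffffffff
open scoped Cfsg.Agent.FastGrp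

-- part: H430/CfPair
section
/-!
# The stabiliser of a pair of root subgroups in a finite Chevalley group

As `CfChev`, for a pair `(X_a, X_b)` of root subgroups normalised by `B`.
-/

set_option autoImplicit false

namespace Cfsg.Agent.H430.CfPair

open scoped Pointwise
open Cfsg Cfsg.Lie Cfsg.Agent.ChevalleyStructure Cfsg.Agent.ChevalleyStructure.Elts
  Cfsg.Agent.ChevalleyStructure.NConj Cfsg.Agent.ChevalleyStructure.BNChev Cfsg.Agent.S1042
  Cfsg.Agent.Schreier.ChevLocal Cfsg.Agent.H70.AutFix Cfsg.Agent.H70.ChevTab Cfsg.Agent.H70.ChevFix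
  Cfsg.Agent.H430.CfChev Cfsg.Agent.H70.ChevField Cfsg.Agent.H70.PermFix

universe u

variable {D : ChevalleyDatum} (hD : InList D) {F : Type u} [Field F]

/-- The conjugates of the pair `(X_r, X_s)` under `B`. -/
def Om2 (D : ChevalleyDatum) (F : Type u) [Field F] (p : ℕ × ℕ) : Set (Subgroup ↥(D.group F) × Subgroup ↥(D.group F)) :=
  {Y | ∃ b ∈ BB D F, Y = (MulAut.conj b • XX D F p.1, MulAut.conj b • XX D F p.2)}

/-- reflection of a pair -/
def rp (D : ChevalleyDatum) (i : ℕ) (p : ℕ × ℕ) : ℕ × ℕ := (D.reflectRoot i p.1, D.reflectRoot i p.2)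

/-- both entries are roots -/
def Lt (D : ChevalleyDatum) (p : ℕ × ℕ) : Prop := p.1 < D.nroots ∧ p.2 < D.nroots

theorem rp_rp (hD : InList D) {i : ℕ} (hi : i < D.rank) {p : ℕ × ℕ} (hp : Lt D p) : rp D i (rp D i p) = p :=
  Prod.ext (Reach.reflect_reflect hD hi hp.1) (Reach.reflect_reflect hD hi hp.2)

/-- The step. -/
theorem Om2_reflect (hD : InList D) [Finite F] (i : Fin D.rank) {p : ℕ × ℕ} (hp : Lt D p) :
    (Om2 D F (rp D i p)).ncard ≤ Nat.card F * (Om2 D F p).ncard := by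
  have hfin : Finite (GL D.Idx F) := inferInstance
  have hfinG : Finite ↥(D.group F) := inferInstance
  have hfinS : Finite (Subgroup ↥(D.group F)) := inferInstance
  have hsub : Om2 D F (rp D i p) ⊆
      (fun q : F × (Subgroup ↥(D.group F) × Subgroup ↥(D.group F)) =>
        (MulAut.conj (xx hD i q.1 * (nn hD F i)⁻¹) • q.2.1, MulAut.conj (xx hD i q.1 * (nn hD F i)⁻¹) • q.2.2)) ''
        (Set.univ ×ˢ Om2 D F p) := by
    rintro Y ⟨b, hb, rfl⟩
    obtain ⟨u, hu, h, hh, rfl⟩ := Schreier.ChevSch.exists_mul F hD hb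
    obtain ⟨t, ht⟩ := exists_xx hD i hu
    have h1 : nn hD F i * ((xx hD i t)⁻¹ * u * h) * (nn hD F i)⁻¹ ∈ BB D F := by
      have e : nn hD F i * ((xx hD i t)⁻¹ * u * h) * (nn hD F i)⁻¹ =
          (nn hD F i * ((xx hD i t)⁻¹ * u) * (nn hD F i)⁻¹) * (nn hD F i * h * (nn hD F i)⁻¹) := by group
      rw [e]
      refine mul_mem ?_ ?_
      · exact UU_le F (VV_le F i ((Subgroup.mem_normalizer_iff.1 (nn_mem_normalizer hD F i) _).1 ht))
      · refine Subgroup.mem_sup_right ?_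
        exact conj_mem_diagonal hD (nG_mem_monomial hD (simple_lt hD i.2) one_ne_zero) hh
    have key : ∀ r, r < D.nroots → MulAut.conj (xx hD i t * (nn hD F i)⁻¹) •
        MulAut.conj (nn hD F i * ((xx hD i t)⁻¹ * u * h) * (nn hD F i)⁻¹) • XX D F r =
        MulAut.conj (u * h) • XX D F (D.reflectRoot i r) := by
      intro r hr
      rw [smul_smul, ← map_mul, ← nn_inv_smul_XX hD i hr, smul_smul, ← map_mul]
      congr 2
      group
    refine ⟨(t, (MulAut.conj (nn hD F i * ((xx hD i t)⁻¹ * u * h) * (nn hD F i)⁻¹) • XX D F p.1,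
      MulAut.conj (nn hD F i * ((xx hD i t)⁻¹ * u * h) * (nn hD F i)⁻¹) • XX D F p.2)),
      ⟨Set.mem_univ _, ⟨_, h1, rfl⟩⟩, ?_⟩
    exact Prod.ext (key _ hp.1) (key _ hp.2)
  refine (Set.ncard_le_ncard hsub (Set.toFinite _)).trans ?_
  refine (Set.ncard_image_le (Set.toFinite _)).trans ?_
  rw [Set.ncard_prod, Set.ncard_univ]

/-- `B` normalises both members of the pair. -/
def BFix (D : ChevalleyDatum) (F : Type u) [Field F] (p : ℕ × ℕ) : Prop :=
  ∀ b ∈ BB D F, MulAut.conj b • XX D F p.1 = XX D F p.1 ∧ MulAut.conj b • XX D F p.2 = XX D F p.2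

theorem Om2_top {p : ℕ × ℕ} (hB : BFix D F p) : Om2 D F p = {(XX D F p.1, XX D F p.2)} := by
  ext Y
  constructor
  · rintro ⟨b, hb, rfl⟩
    exact Prod.ext (hB b hb).1 (hB b hb).2
  · rintro rfl
    exact ⟨1, one_mem _, by rw [map_one, one_smul, one_smul]⟩

/-- A table of distances from the pair `top`. -/
structure DistOk2 (D : ChevalleyDatum) (O : List (ℕ × ℕ)) (top : ℕ × ℕ) (d : ℕ × ℕ → ℕ) : Prop where
  lt : ∀ p ∈ O, Lt D p
  top_mem : top ∈ O
  step : ∀ p ∈ O, p = top ∨ ∃ i < D.rank, rp D i p ∈ O ∧ d (rp D i p) + 1 = d p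
  closed : ∀ p ∈ O, ∀ i < D.rank, rp D i p ∈ O

theorem ncard_Om2_le (hD : InList D) [Finite F] {O : List (ℕ × ℕ)} {top : ℕ × ℕ} {d : ℕ × ℕ → ℕ}
    (h : DistOk2 D O top d) (hB : BFix D F top) {p : ℕ × ℕ} (hp : p ∈ O) :
    (Om2 D F p).ncard ≤ Nat.card F ^ d p := by
  obtain ⟨n, hn⟩ : ∃ n, n = d p := ⟨_, rfl⟩
  induction n generalizing p with
  | zero =>
    rcases h.step p hp with h1 | ⟨i, hi, h1, h2⟩
    · rw [h1, Om2_top hB, Set.ncard_singleton]
      exact Nat.one_le_pow _ _ Nat.card_pos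
    · omega
  | succ n ih =>
    rcases h.step p hp with h1 | ⟨i, hi, h1, h2⟩
    · rw [h1, Om2_top hB, Set.ncard_singleton]
      exact Nat.one_le_pow _ _ Nat.card_pos
    · have h3 := Om2_reflect (F := F) hD ⟨i, hi⟩ (h.lt _ h1)
      rw [show ((⟨i, hi⟩ : Fin D.rank) : ℕ) = i from rfl, rp_rp hD hi (h.lt p hp)] at h3
      refine h3.trans ?_
      rw [← h2, pow_succ, mul_comm]
      exact Nat.mul_le_mul_right _ (ih h1 (by omega))

/-- the action of a group element on pairs -/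
def act {G : Type*} [Group G] (g : G) (Y : Subgroup G × Subgroup G) : Subgroup G × Subgroup G :=
  (MulAut.conj g • Y.1, MulAut.conj g • Y.2)

theorem act_mul {G : Type*} [Group G] (a b : G) (Y : Subgroup G × Subgroup G) : act (a * b) Y = act a (act b Y) := by
  unfold act
  rw [map_mul, mul_smul, mul_smul]

theorem act_one {G : Type*} [Group G] (Y : Subgroup G × Subgroup G) : act 1 Y = Y := by
  unfold act
  rw [map_one, one_smul, one_smul]

/-- `N` permutes the pairs of the orbit. -/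
theorem exists_of_mem_NN2 (hD : InList D) [Finite F] {O : List (ℕ × ℕ)} {top : ℕ × ℕ} {d : ℕ × ℕ → ℕ}
    (h : DistOk2 D O top d) {n : ↥(D.group F)} (hn : n ∈ NN D F) {p : ℕ × ℕ} (hp : p ∈ O) :
    ∃ s ∈ O, act n (XX D F p.1, XX D F p.2) = (XX D F s.1, XX D F s.2) := by
  have key : ∀ g : GL D.Idx F, g ∈ D.monomialSubgroup F → ∀ hg : g ∈ D.group F, ∀ p ∈ O,
      ∃ s ∈ O, act (⟨g, hg⟩ : ↥(D.group F)) (XX D F p.1, XX D F p.2) = (XX D F s.1, XX D F s.2) := by
    let K : Subgroup (GL D.Idx F) :=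
      { carrier := {g | ∃ hg : g ∈ D.group F, (∀ p ∈ O, ∃ s ∈ O,
          act (⟨g, hg⟩ : ↥(D.group F)) (XX D F p.1, XX D F p.2) = (XX D F s.1, XX D F s.2)) ∧
          ∀ p ∈ O, ∃ s ∈ O, act (⟨g, hg⟩ : ↥(D.group F))⁻¹ (XX D F p.1, XX D F p.2) = (XX D F s.1, XX D F s.2)}
        mul_mem' := by
          rintro a b ⟨ha, ha1, ha2⟩ ⟨hb, hb1, hb2⟩
          refine ⟨mul_mem ha hb, fun r hr => ?_, fun r hr => ?_⟩
          · obtain ⟨s, hs, e1⟩ := hb1 r hr
            obtain ⟨s', hs', e2⟩ := ha1 s hs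
            refine ⟨s', hs', ?_⟩
            rw [← e2, ← e1, ← act_mul]
            rfl
          · obtain ⟨s, hs, e1⟩ := ha2 r hr
            obtain ⟨s', hs', e2⟩ := hb2 s hs
            refine ⟨s', hs', ?_⟩
            rw [← e2, ← e1, ← act_mul, ← mul_inv_rev]
            rfl
        one_mem' := ⟨one_mem _, fun r hr => ⟨r, hr, by
          rw [show (⟨1, one_mem _⟩ : ↥(D.group F)) = 1 from rfl, act_one]⟩, fun r hr => ⟨r, hr, by
          rw [show (⟨1, one_mem _⟩ : ↥(D.group F)) = 1 from rfl, inv_one, act_one]⟩⟩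
        inv_mem' := by
          rintro a ⟨ha, ha1, ha2⟩
          refine ⟨inv_mem ha, fun r hr => ?_, fun r hr => ?_⟩
          · exact ha2 r hr
          · obtain ⟨s, hs, e⟩ := ha1 r hr
            refine ⟨s, hs, ?_⟩
            rw [← e]
            congr 2 }
    have hle : D.monomialSubgroup F ≤ K := by
      refine monomial_le_of hD (fun g hg => ?_) (fun i hi => ?_)
      · have hg' : (⟨g, diagonal_le_group hD F hg⟩ : ↥(D.group F)) ∈ HH D F := hg
        exact ⟨diagonal_le_group hD F hg,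
          fun r hr => ⟨r, hr, Prod.ext (conj_XX hD hg' (h.lt r hr).1) (conj_XX hD hg' (h.lt r hr).2)⟩,
          fun r hr => ⟨r, hr, Prod.ext (conj_XX hD (inv_mem hg') (h.lt r hr).1)
            (conj_XX hD (inv_mem hg') (h.lt r hr).2)⟩⟩
      · exact ⟨nG_mem_group hD _ _,
          fun r hr => ⟨_, h.closed r hr i hi, (Prod.ext (nn_smul_XX hD ⟨i, hi⟩ (h.lt r hr).1)
            (nn_smul_XX hD ⟨i, hi⟩ (h.lt r hr).2) : _)⟩,
          fun r hr => ⟨_, h.closed r hr i hi, (Prod.ext (nn_inv_smul_XX hD ⟨i, hi⟩ (h.lt r hr).1)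
            (nn_inv_smul_XX hD ⟨i, hi⟩ (h.lt r hr).2) : _)⟩⟩
    intro g hg hg' r hr
    obtain ⟨_, h1, -⟩ := hle hg
    exact h1 r hr
  exact key n hn n.2 p hp

/-- The conjugates of the pair. -/
theorem conj_mem_Om2 (hD : InList D) [Finite F] {O : List (ℕ × ℕ)} {top : ℕ × ℕ} {d : ℕ × ℕ → ℕ}
    (h : DistOk2 D O top d) (hB : BFix D F top) (g : ↥(D.group F)) :
    ∃ p ∈ O, act g (XX D F top.1, XX D F top.2) ∈ Om2 D F p := by
  obtain ⟨b, hb, n, hn, b', hb', rfl⟩ := bruhat hD g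
  obtain ⟨s, hs, e⟩ := exists_of_mem_NN2 hD h hn h.top_mem
  refine ⟨s, hs, b, hb, ?_⟩
  have h1 : act b' (XX D F top.1, XX D F top.2) = (XX D F top.1, XX D F top.2) :=
    Prod.ext (hB b' hb').1 (hB b' hb').2
  rw [act_mul, act_mul, h1, e]
  rfl

/-- The stabiliser of the pair. -/
def KK (D : ChevalleyDatum) (F : Type u) [Field F] (p : ℕ × ℕ) : Subgroup ↥(D.group F) :=
  Subgroup.normalizer (XX D F p.1 : Set ↥(D.group F)) ⊓ Subgroup.normalizer (XX D F p.2 : Set ↥(D.group F))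

theorem mem_KK {p : ℕ × ℕ} {g : ↥(D.group F)} :
    g ∈ KK D F p ↔ act g (XX D F p.1, XX D F p.2) = (XX D F p.1, XX D F p.2) := by
  unfold KK act
  rw [Subgroup.mem_inf, mem_normalizer_iff_smul, mem_normalizer_iff_smul, Prod.mk.injEq]

theorem sum_toFinset_le' (L : List (ℕ × ℕ)) (f : ℕ × ℕ → ℕ) : ∑ r ∈ L.toFinset, f r ≤ (L.map f).sum := by
  induction L with
  | nil => simp
  | cons a L ih =>
    rw [List.toFinset_cons, List.map_cons, List.sum_cons]
    by_cases ha : a ∈ L.toFinset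
    · rw [Finset.insert_eq_self.2 ha]; omega
    · rw [Finset.sum_insert ha]; omega

/-- **The index of the stabiliser of the pair.** -/
theorem index_KK_le (hD : InList D) [Finite F] {O : List (ℕ × ℕ)} {top : ℕ × ℕ} {d : ℕ × ℕ → ℕ}
    (h : DistOk2 D O top d) (hB : BFix D F top) :
    (KK D F top).index ≤ (O.map fun p => Nat.card F ^ d p).sum := by
  have hfin : Finite (GL D.Idx F) := inferInstance
  have hfinG : Finite ↥(D.group F) := inferInstance
  have hfinS : Finite (Subgroup ↥(D.group F)) := inferInstance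
  set N := KK D F top with hN
  have h1 : N.index ≤ (Set.range fun g : ↥(D.group F) => act g (XX D F top.1, XX D F top.2)).ncard := by
    rw [Subgroup.index_eq_card, ← Nat.card_coe_set_eq]
    refine Nat.card_le_card_of_injective (fun x => ⟨act x.out (XX D F top.1, XX D F top.2), ⟨_, rfl⟩⟩) ?_
    intro x y hxy
    have h2 : act x.out (XX D F top.1, XX D F top.2) = act y.out (XX D F top.1, XX D F top.2) :=
      congrArg Subtype.val hxy
    have h3 : (x.out)⁻¹ * y.out ∈ N := by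
      refine mem_KK.2 ?_
      rw [act_mul, ← h2, ← act_mul, inv_mul_cancel, act_one]
    rw [← x.out_eq, ← y.out_eq]
    exact QuotientGroup.eq.2 h3
  have h2 : (Set.range fun g : ↥(D.group F) => act g (XX D F top.1, XX D F top.2)) ⊆
      ⋃ r ∈ O.toFinset, Om2 D F r := by
    rintro _ ⟨g, rfl⟩
    obtain ⟨r, hr, hg⟩ := conj_mem_Om2 hD h hB g
    exact Set.mem_iUnion₂.2 ⟨r, List.mem_toFinset.2 hr, hg⟩
  refine h1.trans ((Set.ncard_le_ncard h2 (Set.toFinite _)).trans ?_)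
  refine (Finset.set_ncard_biUnion_le _ _).trans ?_
  refine (Finset.sum_le_sum fun r hr => ncard_Om2_le hD h hB (List.mem_toFinset.1 hr)).trans ?_
  exact sum_toFinset_le' O _

/-! ### The check of a table -/

/-- the check of the table of distances; entries `(r, s, d, i)` -/
def chk2 (D : ChevalleyDatum) (T : List (ℕ × ℕ × ℕ × ℕ)) (top : ℕ × ℕ) : Bool :=
  (T.all fun e => Nat.blt e.1 D.nroots && Nat.blt e.2.1 D.nroots &&
    ((Nat.beq e.1 top.1 && Nat.beq e.2.1 top.2) || (Nat.blt e.2.2.2 D.rank &&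
      (T.find? fun e' => Nat.beq e'.1 (D.reflectRoot e.2.2.2 e.1) && Nat.beq e'.2.1 (D.reflectRoot e.2.2.2 e.2.1)).any
        fun e' => Nat.beq (e'.2.2.1 + 1) e.2.2.1)) &&
    (List.range D.rank).all fun i => T.any fun e' => Nat.beq e'.1 (D.reflectRoot i e.1) &&
      Nat.beq e'.2.1 (D.reflectRoot i e.2.1)) &&
  (T.any fun e' => Nat.beq e'.1 top.1 && Nat.beq e'.2.1 top.2) &&
  T.all fun e => (T.find? fun e' => Nat.beq e'.1 e.1 && Nat.beq e'.2.1 e.2.1).any
        fun e' => Nat.beq e'.2.2.1 e.2.2.1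

/-- the distance in the table -/
def dist (T : List (ℕ × ℕ × ℕ × ℕ)) (p : ℕ × ℕ) : ℕ :=
  match T.find? fun e' => Nat.beq e'.1 p.1 && Nat.beq e'.2.1 p.2 with
  | some e => e.2.2.1
  | none => 0

/-- the pairs of the table -/
def prs (T : List (ℕ × ℕ × ℕ × ℕ)) : List (ℕ × ℕ) := T.map fun e => (e.1, e.2.1)

theorem mem_prs {T : List (ℕ × ℕ × ℕ × ℕ)} {p : ℕ × ℕ}
    (h : (T.any fun e' => Nat.beq e'.1 p.1 && Nat.beq e'.2.1 p.2) = true) : p ∈ prs T := by
  obtain ⟨e, he, h1⟩ := List.any_eq_true.1 h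
  rw [Bool.and_eq_true] at h1
  exact List.mem_map.2 ⟨e, he, Prod.ext (Nat.eq_of_beq_eq_true h1.1) (Nat.eq_of_beq_eq_true h1.2)⟩

theorem dist_eq {T : List (ℕ × ℕ × ℕ × ℕ)} {p : ℕ × ℕ} {n : ℕ} {f : ℕ → ℕ}
    (h : ((T.find? fun e' => Nat.beq e'.1 p.1 && Nat.beq e'.2.1 p.2).any fun e' => Nat.beq (f e'.2.2.1) n) = true) :
    f (dist T p) = n ∧ p ∈ prs T := by
  unfold dist
  cases hE : T.find? fun e' => Nat.beq e'.1 p.1 && Nat.beq e'.2.1 p.2 with
  | none => rw [hE] at h; simp at h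
  | some e =>
    rw [hE] at h
    refine ⟨Nat.eq_of_beq_eq_true h, mem_prs (List.any_eq_true.2 ⟨e, List.mem_of_find?_eq_some hE, ?_⟩)⟩
    have h2 := List.find?_some (p := fun e' : ℕ × ℕ × ℕ × ℕ => Nat.beq e'.1 p.1 && Nat.beq e'.2.1 p.2) hE
    exact h2

theorem distOk2 {T : List (ℕ × ℕ × ℕ × ℕ)} {top : ℕ × ℕ} (h : chk2 D T top = true) :
    DistOk2 D (prs T) top (dist T) ∧ ((prs T).map (dist T)) = T.map fun e => e.2.2.1 := by
  unfold chk2 at h
  rw [Bool.and_eq_true, Bool.and_eq_true] at h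
  obtain ⟨⟨h1, h2⟩, h3⟩ := h
  have hd : ∀ e ∈ T, dist T (e.1, e.2.1) = e.2.2.1 := fun e he =>
    (dist_eq (T := T) (p := (e.1, e.2.1)) (f := fun n => n) (List.all_eq_true.1 h3 e he)).1
  refine ⟨⟨?_, mem_prs h2, ?_, ?_⟩, ?_⟩
  · intro p hp
    obtain ⟨e, he, rfl⟩ := List.mem_map.1 hp
    have h4 := List.all_eq_true.1 h1 e he
    rw [Bool.and_eq_true, Bool.and_eq_true, Bool.and_eq_true] at h4
    exact ⟨(Nat.blt_eq ..).mp h4.1.1.1, (Nat.blt_eq ..).mp h4.1.1.2⟩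
  · intro p hp
    obtain ⟨e, he, rfl⟩ := List.mem_map.1 hp
    have h4 := List.all_eq_true.1 h1 e he
    simp only [Bool.and_eq_true, Bool.or_eq_true] at h4
    rcases h4.1.2 with h5 | ⟨h5, h6⟩
    · exact Or.inl (Prod.ext (Nat.eq_of_beq_eq_true h5.1) (Nat.eq_of_beq_eq_true h5.2))
    · have h7 := dist_eq (T := T) (p := rp D e.2.2.2 (e.1, e.2.1)) (f := fun n => n + 1) h6
      refine Or.inr ⟨e.2.2.2, (Nat.blt_eq ..).mp h5, h7.2, ?_⟩
      rw [hd e he]
      exact h7.1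
  · intro p hp i hi
    obtain ⟨e, he, rfl⟩ := List.mem_map.1 hp
    have h4 := List.all_eq_true.1 h1 e he
    rw [Bool.and_eq_true] at h4
    exact mem_prs (p := rp D i (e.1, e.2.1)) (List.all_eq_true.1 h4.2 i (List.mem_range.2 hi))
  · unfold prs
    rw [List.map_map]
    exact List.map_congr_left fun e he => hd e he

/-! ### The invariance -/

theorem nn_eq_ne (i : Fin D.rank) : nn hD F i = ne hD (D.simple i) 1 := rfl

theorem ne_smul_XX [Finite F] (i : Fin D.rank) {t : F} (ht : t ≠ 0) {r : ℕ} (hr : r < D.nroots) :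
    MulAut.conj (ne hD (D.simple i) t) • XX D F r = XX D F (D.reflectRoot i r) := by
  rw [_root_.Cfsg.Agent.H70.ChevField.ne_eq hD (D.simple i) t, map_mul, mul_smul, ← nn_eq_ne hD i, nn_smul_XX hD i hr,
    conj_XX hD (he_mem_HH hD (simple_lt hD i.2) ht) (Reach.reflect_lt hD i.2 hr)]

/-- automorphisms permuting the fundamental root subgroups commute with reflections -/
theorem smul_reflect (hD : InList D) [Finite F] {φ : MulAut ↥(D.group F)} {π : Equiv.Perm (Fin D.rank)} (hφ : Perm D F φ π)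
    (i : Fin D.rank) {r r' : ℕ} (hr : r < D.nroots) (hr' : r' < D.nroots) (h : φ • XX D F r = XX D F r') :
    φ • XX D F (D.reflectRoot i r) = XX D F (D.reflectRoot (π i) r') := by
  obtain ⟨c, σ, hc, h1, h2, -⟩ := exists_field hD hφ
  rw [← ne_smul_XX hD i one_ne_zero hr, smul_conj_smul, h, map_ne hD (h1 i) (h2 i)]
  refine ne_smul_XX hD (π i) (mul_ne_zero (hc i) ?_) hr'
  rw [map_one]; exact one_ne_zero

/-- a word of reflections -/
def refl (D : ChevalleyDatum) (w : List ℕ) (r : ℕ) : ℕ := w.foldl (fun r i => D.reflectRoot i r) r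

theorem smul_word (hD : InList D) [Finite F] {φ : MulAut ↥(D.group F)} {π : Equiv.Perm (Fin D.rank)} (hφ : Perm D F φ π)
    (w : List (Fin D.rank)) {r r' : ℕ} (hr : r < D.nroots) (hr' : r' < D.nroots) (h : φ • XX D F r = XX D F r') :
    φ • XX D F (refl D (w.map fun i => (i : ℕ)) r) = XX D F (refl D (w.map fun i => ((π i : Fin D.rank) : ℕ)) r') := by
  induction w generalizing r r' with
  | nil => exact h
  | cons i w ih =>
    exact ih (Reach.reflect_lt hD i.2 hr) (Reach.reflect_lt hD (π i).2 hr') (smul_reflect hD hφ i hr hr' h)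

end Cfsg.Agent.H430.CfPair
end

-- part: H430/CfG2Frame
section
/-!
# Root subgroups in proper subgroups of `G₂(q)`, `q = 3^f ≥ 9`

`top_of` : if for every `g` the subgroup `H` contains the conjugate by `g` of the long root group `X_{3a+2b}` or that of
the short root group `X_{2a+b}`, then it contains all long root groups.
-/

set_option autoImplicit false

namespace Cfsg.Agent.H430.CfG2Frame

open Cfsg Cfsg.Lie Cfsg.Agent.ChevalleyStructure Cfsg.Agent.ChevalleyStructure.Elts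
  Cfsg.Agent.H70.ChevFix Cfsg.Agent.H69.OutGF

universe u

variable {F : Type u} [Field F]

/-- `X_r^g ≤ H` -/
def PP (H : Subgroup ↥(chevG2.group F)) (r : ℕ) (g : ↥(chevG2.group F)) : Prop :=
  ∀ t : F, g⁻¹ * xe hG2 r t * g ∈ H

theorem PP_reflect (H : Subgroup ↥(chevG2.group F)) {i s : ℕ} (hi : i < chevG2.rank) (hs : s < chevG2.nroots)
    (g : ↥(chevG2.group F)) :
    PP H (chevG2.reflectRoot i s) g ↔ PP H s ((H79.SimpleGen.nS hG2 (chevG2.simple i) (1 : F))⁻¹ * g) := by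
  have key : ∀ t : F, xe hG2 (chevG2.reflectRoot i s) t =
      H79.SimpleGen.nS hG2 (chevG2.simple i) 1 * xe hG2 s (((NSimple.eta chevG2 i s : ℤ) : F) * t) *
        (H79.SimpleGen.nS hG2 (chevG2.simple i) 1)⁻¹ := fun t => H79.SimpleGen.xS_reflect hG2 hi hs t
  set n := H79.SimpleGen.nS hG2 (chevG2.simple i) (1 : F) with hn
  constructor
  · intro h t
    have h1 := h (((NSimple.eta chevG2 i s : ℤ) : F) * t)
    rw [key, ← mul_assoc (((NSimple.eta chevG2 i s : ℤ) : F)), H79.SimpleGen.eta_mul_self hG2 hi hs, one_mul] at h1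
    have e : (n⁻¹ * g)⁻¹ * xe hG2 s t * (n⁻¹ * g) = g⁻¹ * (n * xe hG2 s t * n⁻¹) * g := by group
    rw [e]
    exact h1
  · intro h t
    have h1 := h (((NSimple.eta chevG2 i s : ℤ) : F) * t)
    rw [key]
    have e : (n⁻¹ * g)⁻¹ * xe hG2 s (((NSimple.eta chevG2 i s : ℤ) : F) * t) * (n⁻¹ * g) =
        g⁻¹ * (n * xe hG2 s (((NSimple.eta chevG2 i s : ℤ) : F) * t) * n⁻¹) * g := by group
    rw [← e]
    exact h1

/-- The commutator formula. -/
theorem comm {r s : ℕ} (hr : r < chevG2.nroots) (hs : s < chevG2.nroots) (hrs : s ≠ r) (hneg : s ≠ chevG2.neg r)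
    (t u : F) : xe hG2 s u * xe hG2 r t = xe hG2 r t * xe hG2 s u *
      (((chevG2.commTerms r s).map fun c => xe hG2 c.1 ((c.2.1 : F) * (-t) ^ c.2.2.1 * u ^ c.2.2.2)).prod) := by
  have h1 := UnipProd.xG_comm hG2 hr hs hrs hneg t u
  have h2 : ∀ l : List (ℕ × ℤ × ℕ × ℕ),
      wordG hG2 (l.map fun c => (c.1, (c.2.1 : F) * (-t) ^ c.2.2.1 * u ^ c.2.2.2)) =
      (((l.map fun c => xe hG2 c.1 ((c.2.1 : F) * (-t) ^ c.2.2.1 * u ^ c.2.2.2)).prod : ↥(chevG2.group F)) :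
        GL chevG2.Idx F) := by
    intro l
    induction l with
    | nil => rfl
    | cons a l ih =>
      rw [List.map_cons, wordG_cons, ih, List.map_cons, List.prod_cons]
      rfl
  apply Subtype.ext
  rw [Subgroup.coe_mul, Subgroup.coe_mul, Subgroup.coe_mul, ← h2]
  exact h1

/-- commuting root elements in characteristic 3 -/
theorem comm_three (h3 : (3 : F) = 0) {r s : ℕ} (hr : r < chevG2.nroots) (hs : s < chevG2.nroots) (hrs : s ≠ r)
    (hneg : s ≠ chevG2.neg r) (h : ∀ q ∈ chevG2.commTerms r s, q.2.1 % 3 = 0) (t u : F) :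
    xe hG2 s u * xe hG2 r t = xe hG2 r t * xe hG2 s u := by
  rw [comm hr hs hrs hneg]
  have h4 : ∀ l : List (ℕ × ℤ × ℕ × ℕ), (∀ q ∈ l, q.2.1 % 3 = 0) →
      (l.map fun c => xe hG2 c.1 ((c.2.1 : F) * (-t) ^ c.2.2.1 * u ^ c.2.2.2)).prod = 1 := by
    intro l
    induction l with
    | nil => intro _; rfl
    | cons a l ih =>
      intro hl
      rw [List.map_cons, List.prod_cons, ih fun q hq => hl q (List.mem_cons_of_mem _ hq), mul_one]
      obtain ⟨k, hk⟩ := Int.dvd_of_emod_eq_zero (hl a List.mem_cons_self)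
      rw [hk, Int.cast_mul, Int.cast_ofNat, h3, zero_mul, zero_mul, zero_mul, xe_zero]
  rw [h4 _ h, mul_one]

theorem tab76 : chevG2.commTerms 7 6 = [(8, -1, 1, 1), (9, 1, 2, 1), (10, 1, 3, 1), (11, 1, 3, 2)] := by
  decide +kernel

theorem tab104 : chevG2.commTerms 10 4 = [(9, -1, 1, 1), (8, -1, 1, 2), (6, -1, 1, 3), (11, 2, 2, 3)] := by
  decide +kernel

theorem abel : ∀ r ∈ [8, 9, 10, 11], ∀ s ∈ [8, 9, 10, 11], ∀ q ∈ chevG2.commTerms r s, q.2.1 % 3 = 0 := by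
  decide +kernel

theorem abel2 : ∀ q ∈ chevG2.commTerms 6 11, q.2.1 % 3 = 0 := by decide +kernel

theorem abel3 : ∀ q ∈ chevG2.commTerms 10 11, q.2.1 % 3 = 0 := by decide +kernel

theorem neqs : (6 : ℕ) ≠ 7 ∧ 6 ≠ chevG2.neg 7 ∧ 4 ≠ chevG2.neg 10 ∧ 11 ≠ chevG2.neg 6 ∧ 11 ≠ chevG2.neg 10 ∧
    (∀ r ∈ [8, 9, 10, 11], ∀ s ∈ [8, 9, 10, 11], s ≠ chevG2.neg r) := by decide +kernel

theorem refl_tab : chevG2.reflectRoot 0 11 = 11 ∧ chevG2.reflectRoot 0 9 = 8 ∧ chevG2.reflectRoot 1 11 = 10 ∧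
    chevG2.reflectRoot 1 9 = 9 ∧ chevG2.reflectRoot 0 10 = 6 ∧ chevG2.reflectRoot 1 6 = 5 ∧
    chevG2.reflectRoot 1 8 = 7 ∧ chevG2.reflectRoot 0 5 = 1 ∧ chevG2.reflectRoot 0 7 = 4 ∧
    chevG2.reflectRoot 1 7 = 8 ∧ chevG2.reflectRoot 0 8 = 9 ∧ chevG2.reflectRoot 1 10 = 11 := by decide +kernel

theorem nr : chevG2.nroots = 12 := rfl

/-- The subgroup `gHg⁻¹`. -/
def cj (H : Subgroup ↥(chevG2.group F)) (g : ↥(chevG2.group F)) : Subgroup ↥(chevG2.group F) :=
  H.comap (MulAut.conj g⁻¹).toMonoidHom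

theorem mem_cj {H : Subgroup ↥(chevG2.group F)} {g x : ↥(chevG2.group F)} : x ∈ cj H g ↔ g⁻¹ * x * g ∈ H := by
  unfold cj
  rw [Subgroup.mem_comap]
  simp only [_root_.map_inv, _root_.MulEquiv.toMonoidHom_eq_coe, _root_.MonoidHom.coe_coe, _root_.MulAut.inv_apply, _root_.MulAut.conj_symm_apply]

theorem PP_iff {H : Subgroup ↥(chevG2.group F)} {r : ℕ} {g : ↥(chevG2.group F)} :
    PP H r g ↔ ∀ t : F, xe hG2 r t ∈ cj H g := by
  unfold PP
  simp only [mem_cj]

/-- The closure property. -/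
theorem closure (h3 : (3 : F) = 0) (hcube : ∀ x : F, ∃ y : F, y ^ 3 = x) {t₀ : F} (ht₀ : t₀ ≠ 0) (ht₁ : t₀ ^ 2 ≠ 1)
    (H : Subgroup ↥(chevG2.group F)) (g : ↥(chevG2.group F)) (h7 : PP H 7 g) (h6 : PP H 6 g) : PP H 10 g := by
  rw [PP_iff] at *
  set K := cj H g with hK
  have cm : ∀ r ∈ [8, 9, 10, 11], ∀ s ∈ [8, 9, 10, 11], ∀ t u : F,
      xe hG2 s u * xe hG2 r t = xe hG2 r t * xe hG2 s u := by
    intro r hr s hs t u
    by_cases hrs : s = r
    · rw [hrs, ← xe_add, ← xe_add, add_comm]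
    · refine comm_three h3 ?_ ?_ hrs (neqs.2.2.2.2.2 r hr s hs) (abel r hr s hs) t u
      · rw [nr]; simp only [List.mem_cons, List.not_mem_nil, or_false] at hr; omega
      · rw [nr]; simp only [List.mem_cons, List.not_mem_nil, or_false] at hs; omega
  have hy : ∀ t u : F, xe hG2 8 (t * u) * (xe hG2 9 (t ^ 2 * u) * (xe hG2 10 (-(t ^ 3 * u)) *
      xe hG2 11 (-(t ^ 3 * u ^ 2)))) ∈ K := by
    intro t u
    have h1 := comm (F := F) (r := 7) (s := 6) (by rw [nr]; norm_num) (by rw [nr]; norm_num) neqs.1 neqs.2.1 t u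
    rw [tab76] at h1
    simp only [List.map_cons, List.map_nil, List.prod_cons, List.prod_nil, mul_one] at h1
    have e : xe hG2 8 (t * u) * (xe hG2 9 (t ^ 2 * u) * (xe hG2 10 (-(t ^ 3 * u)) *
        xe hG2 11 (-(t ^ 3 * u ^ 2)))) = (xe hG2 7 t * xe hG2 6 u)⁻¹ * (xe hG2 6 u * xe hG2 7 t) := by
      have e1 : (((-1 : ℤ) : F) * (-t) ^ 1 * u ^ 1) = t * u := by push_cast; ring
      have e2 : (((1 : ℤ) : F) * (-t) ^ 2 * u ^ 1) = t ^ 2 * u := by push_cast; ring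
      have e3 : (((1 : ℤ) : F) * (-t) ^ 3 * u ^ 1) = -(t ^ 3 * u) := by push_cast; ring
      have e4 : (((1 : ℤ) : F) * (-t) ^ 3 * u ^ 2) = -(t ^ 3 * u ^ 2) := by push_cast; ring
      rw [e1, e2, e3, e4] at h1
      rw [h1, inv_mul_cancel_left]
    rw [e]
    exact K.mul_mem (K.inv_mem (K.mul_mem (h7 t) (h6 u))) (K.mul_mem (h6 u) (h7 t))
  -- the root 11
  have h11 : ∀ x : F, xe hG2 11 x ∈ K := by
    intro x
    obtain ⟨t, rfl⟩ := hcube x
    have h1 := K.mul_mem (hy t 1) (hy t (-1))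
    have e : xe hG2 8 (t * 1) * (xe hG2 9 (t ^ 2 * 1) * (xe hG2 10 (-(t ^ 3 * 1)) * xe hG2 11 (-(t ^ 3 * 1 ^ 2)))) *
        (xe hG2 8 (t * -1) * (xe hG2 9 (t ^ 2 * -1) * (xe hG2 10 (-(t ^ 3 * -1)) * xe hG2 11 (-(t ^ 3 * (-1) ^ 2))))) =
        xe hG2 11 (t ^ 3) := by
      have c1 := cm 8 (by simp) 9 (by simp) (t * -1) (t ^ 2 * 1)
      have c2 := cm 8 (by simp) 10 (by simp) (t * -1) (-(t ^ 3 * 1))
      have c3 := cm 8 (by simp) 11 (by simp) (t * -1) (-(t ^ 3 * 1 ^ 2))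
      have c4 := cm 9 (by simp) 10 (by simp) (t ^ 2 * -1) (-(t ^ 3 * 1))
      have c5 := cm 9 (by simp) 11 (by simp) (t ^ 2 * -1) (-(t ^ 3 * 1 ^ 2))
      have c6 := cm 10 (by simp) 11 (by simp) (-(t ^ 3 * -1)) (-(t ^ 3 * 1 ^ 2))
      have a1 : xe hG2 8 (t * 1) * xe hG2 8 (t * -1) = 1 := by
        rw [← xe_add, show t * 1 + t * -1 = 0 by ring, xe_zero]
      have a2 : xe hG2 9 (t ^ 2 * 1) * xe hG2 9 (t ^ 2 * -1) = 1 := by
        rw [← xe_add, show t ^ 2 * 1 + t ^ 2 * -1 = 0 by ring, xe_zero]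
      have a3 : xe hG2 10 (-(t ^ 3 * 1)) * xe hG2 10 (-(t ^ 3 * -1)) = 1 := by
        rw [← xe_add, show -(t ^ 3 * 1) + -(t ^ 3 * -1) = 0 by ring, xe_zero]
      have a4 : xe hG2 11 (-(t ^ 3 * 1 ^ 2)) * xe hG2 11 (-(t ^ 3 * (-1) ^ 2)) = xe hG2 11 (t ^ 3) := by
        rw [← xe_add]
        congr 1
        linear_combination (-t ^ 3) * h3
      generalize xe hG2 8 (t * 1) = A at *
      generalize xe hG2 8 (t * -1) = A' at *
      generalize xe hG2 9 (t ^ 2 * 1) = B at *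
      generalize xe hG2 9 (t ^ 2 * -1) = B' at *
      generalize xe hG2 10 (-(t ^ 3 * 1)) = C at *
      generalize xe hG2 10 (-(t ^ 3 * -1)) = C' at *
      generalize xe hG2 11 (-(t ^ 3 * 1 ^ 2)) = D at *
      generalize xe hG2 11 (-(t ^ 3 * (-1) ^ 2)) = D' at *
      calc A * (B * (C * D)) * (A' * (B' * (C' * D'))) = A * B * C * (D * A') * B' * C' * D' := by group
        _ = A * B * (C * A') * D * B' * C' * D' := by rw [c3]; group
        _ = A * (B * A') * C * (D * B') * C' * D' := by rw [c2]; group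
        _ = (A * A') * B * (C * B') * (D * C') * D' := by rw [c1, c5]; group
        _ = (A * A') * (B * B') * (C * C') * (D * D') := by rw [c4, c6]; group
        _ = xe hG2 11 (t ^ 3) := by rw [a1, a2, a3, a4]; group
    rw [e] at h1
    exact h1
  have hz : ∀ t u : F, xe hG2 8 (t * u) * (xe hG2 9 (t ^ 2 * u) * xe hG2 10 (-(t ^ 3 * u))) ∈ K := by
    intro t u
    have h1 := K.mul_mem (hy t u) (K.inv_mem (h11 (-(t ^ 3 * u ^ 2))))
    have e : xe hG2 8 (t * u) * (xe hG2 9 (t ^ 2 * u) * (xe hG2 10 (-(t ^ 3 * u)) *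
      xe hG2 11 (-(t ^ 3 * u ^ 2)))) * (xe hG2 11 (-(t ^ 3 * u ^ 2)))⁻¹ =
      xe hG2 8 (t * u) * (xe hG2 9 (t ^ 2 * u) * xe hG2 10 (-(t ^ 3 * u))) := by group
    rwa [e] at h1
  -- the root 9
  have h9 : ∀ x : F, xe hG2 9 x ∈ K := by
    intro x
    have h1 := K.mul_mem (hz 1 (-x)) (hz (-1) (-x))
    have e : xe hG2 8 (1 * -x) * (xe hG2 9 (1 ^ 2 * -x) * xe hG2 10 (-(1 ^ 3 * -x))) *
        (xe hG2 8 (-1 * -x) * (xe hG2 9 ((-1) ^ 2 * -x) * xe hG2 10 (-((-1) ^ 3 * -x)))) = xe hG2 9 x := by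
      have c1 := cm 8 (by simp) 9 (by simp) (-1 * -x) (1 ^ 2 * -x)
      have c2 := cm 8 (by simp) 10 (by simp) (-1 * -x) (-(1 ^ 3 * -x))
      have c4 := cm 9 (by simp) 10 (by simp) ((-1) ^ 2 * -x) (-(1 ^ 3 * -x))
      have a1 : xe hG2 8 (1 * -x) * xe hG2 8 (-1 * -x) = 1 := by
        rw [← xe_add, show 1 * -x + -1 * -x = 0 by ring, xe_zero]
      have a2 : xe hG2 9 (1 ^ 2 * -x) * xe hG2 9 ((-1) ^ 2 * -x) = xe hG2 9 x := by
        rw [← xe_add]
        congr 1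
        linear_combination (-x) * h3
      have a3 : xe hG2 10 (-(1 ^ 3 * -x)) * xe hG2 10 (-((-1) ^ 3 * -x)) = 1 := by
        rw [← xe_add, show -(1 ^ 3 * -x) + -((-1) ^ 3 * -x) = 0 by ring, xe_zero]
      generalize xe hG2 8 (1 * -x) = A at *
      generalize xe hG2 8 (-1 * -x) = A' at *
      generalize xe hG2 9 (1 ^ 2 * -x) = B at *
      generalize xe hG2 9 ((-1) ^ 2 * -x) = B' at *
      generalize xe hG2 10 (-(1 ^ 3 * -x)) = C at *
      generalize xe hG2 10 (-((-1) ^ 3 * -x)) = C' at *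
      calc A * (B * C) * (A' * (B' * C')) = A * B * (C * A') * B' * C' := by group
        _ = A * (B * A') * (C * B') * C' := by rw [c2]; group
        _ = (A * A') * (B * B') * (C * C') := by rw [c1, c4]; group
        _ = xe hG2 9 x := by rw [a1, a2, a3]; group
    rw [e] at h1
    exact h1
  have hv : ∀ t u : F, xe hG2 8 (t * u) * xe hG2 10 (-(t ^ 3 * u)) ∈ K := by
    intro t u
    have h1 := K.mul_mem (hz t u) (K.inv_mem (h9 (t ^ 2 * u)))
    have c := cm 9 (by simp) 10 (by simp) (t ^ 2 * u) (-(t ^ 3 * u))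
    have e : xe hG2 8 (t * u) * (xe hG2 9 (t ^ 2 * u) * xe hG2 10 (-(t ^ 3 * u))) * (xe hG2 9 (t ^ 2 * u))⁻¹ =
        xe hG2 8 (t * u) * xe hG2 10 (-(t ^ 3 * u)) := by
      rw [← c]; group
    rwa [e] at h1
  intro x
  -- x₈(u) x₁₀(-u), x₈(u) x₁₀(-t²u)
  obtain ⟨u, hu⟩ : ∃ u : F, (1 - t₀ ^ 2) * u = x :=
    ⟨x / (1 - t₀ ^ 2), mul_div_cancel₀ _ (sub_ne_zero.2 (Ne.symm ht₁))⟩
  have h1 := K.mul_mem (K.inv_mem (hv 1 u)) (hv t₀ (u / t₀))
  have e1 : t₀ * (u / t₀) = u := mul_div_cancel₀ u ht₀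
  have e2 : t₀ ^ 3 * (u / t₀) = t₀ ^ 2 * u := by field_simp
  rw [e1, e2, one_mul, one_pow, one_mul] at h1
  have e3 : (xe hG2 8 u * xe hG2 10 (-u))⁻¹ * (xe hG2 8 u * xe hG2 10 (-(t₀ ^ 2 * u))) = xe hG2 10 x := by
    rw [mul_inv_rev, mul_assoc, inv_mul_cancel_left, ← xe_neg, ← xe_add]
    congr 1
    rw [← hu]; ring
  rwa [e3] at h1

/-- The last step. -/
theorem last (h3 : (3 : F) = 0) (hcube : ∀ x : F, ∃ y : F, y ^ 3 = x) (H : Subgroup ↥(chevG2.group F))
    (g : ↥(chevG2.group F)) (h9 : PP H 9 g) (h8 : PP H 8 g) (h4 : ∀ c : F, PP H 4 (xe hG2 10 c * g)) : PP H 11 g := by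
  have h4' : ∀ c t : F, (xe hG2 10 c)⁻¹ * xe hG2 4 t * xe hG2 10 c ∈ cj H g := by
    intro c t
    rw [mem_cj]
    have h1 := h4 c t
    have e : g⁻¹ * ((xe hG2 10 c)⁻¹ * xe hG2 4 t * xe hG2 10 c) * g =
        (xe hG2 10 c * g)⁻¹ * xe hG2 4 t * (xe hG2 10 c * g) := by group
    rw [e]; exact h1
  rw [PP_iff] at *
  set K := cj H g with hK
  have h40 : ∀ t : F, xe hG2 4 t ∈ K := by
    intro t
    have := h4' 0 t
    rwa [xe_zero, inv_one, one_mul, mul_one] at this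
  have hy : ∀ c t : F, xe hG2 6 (c * t ^ 3) * xe hG2 11 (2 * c ^ 2 * t ^ 3) ∈ K := by
    intro c t
    have h1 := comm (F := F) (r := 10) (s := 4) (by rw [nr]; norm_num) (by rw [nr]; norm_num) (by norm_num)
      neqs.2.2.1 c t
    rw [tab104] at h1
    simp only [List.map_cons, List.map_nil, List.prod_cons, List.prod_nil, mul_one] at h1
    have h2 : (xe hG2 4 t)⁻¹ * ((xe hG2 10 c)⁻¹ * xe hG2 4 t * xe hG2 10 c) ∈ K :=
      K.mul_mem (K.inv_mem (h40 t)) (h4' c t)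
    have e : (xe hG2 4 t)⁻¹ * ((xe hG2 10 c)⁻¹ * xe hG2 4 t * xe hG2 10 c) =
        (xe hG2 10 c * xe hG2 4 t)⁻¹ * (xe hG2 4 t * xe hG2 10 c) := by group
    rw [e, h1, inv_mul_cancel_left] at h2
    have h5 : ∀ {a b : ↥(chevG2.group F)}, a ∈ K → a * b ∈ K → b ∈ K := fun ha hab => by
      have := K.mul_mem (K.inv_mem ha) hab
      rwa [inv_mul_cancel_left] at this
    have h6 := h5 (h8 _) (h5 (h9 _) h2)
    have e2 : (((-1 : ℤ) : F) * (-c) ^ 1 * t ^ 3) = c * t ^ 3 := by push_cast; ring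
    have e3 : (((2 : ℤ) : F) * (-c) ^ 2 * t ^ 3) = 2 * c ^ 2 * t ^ 3 := by push_cast; ring
    rw [e2, e3] at h6
    exact h6
  intro x
  obtain ⟨t, rfl⟩ := hcube x
  have h1 := K.mul_mem (hy 1 t) (hy (-1) t)
  have c1 := comm_three h3 (r := 6) (s := 11) (by rw [nr]; norm_num) (by rw [nr]; norm_num) (by norm_num)
    neqs.2.2.2.1 abel2 (-1 * t ^ 3) (2 * 1 ^ 2 * t ^ 3)
  have e : xe hG2 6 (1 * t ^ 3) * xe hG2 11 (2 * 1 ^ 2 * t ^ 3) *
      (xe hG2 6 (-1 * t ^ 3) * xe hG2 11 (2 * (-1) ^ 2 * t ^ 3)) = xe hG2 11 (t ^ 3) := by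
    calc xe hG2 6 (1 * t ^ 3) * xe hG2 11 (2 * 1 ^ 2 * t ^ 3) *
        (xe hG2 6 (-1 * t ^ 3) * xe hG2 11 (2 * (-1) ^ 2 * t ^ 3)) =
        xe hG2 6 (1 * t ^ 3) * (xe hG2 11 (2 * 1 ^ 2 * t ^ 3) * xe hG2 6 (-1 * t ^ 3)) *
          xe hG2 11 (2 * (-1) ^ 2 * t ^ 3) := by group
      _ = (xe hG2 6 (1 * t ^ 3) * xe hG2 6 (-1 * t ^ 3)) * (xe hG2 11 (2 * 1 ^ 2 * t ^ 3) *
          xe hG2 11 (2 * (-1) ^ 2 * t ^ 3)) := by rw [c1]; group
      _ = xe hG2 11 (t ^ 3) := by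
        rw [← xe_add, ← xe_add, show 1 * t ^ 3 + -1 * t ^ 3 = 0 by ring, xe_zero, one_mul]
        congr 1
        linear_combination (t ^ 3) * h3
  rwa [e] at h1

/-- **`H` contains all long root groups.** -/
theorem top_of (h3 : (3 : F) = 0) (hcube : ∀ x : F, ∃ y : F, y ^ 3 = x) {t₀ : F} (ht₀ : t₀ ≠ 0) (ht₁ : t₀ ^ 2 ≠ 1)
    (H : Subgroup ↥(chevG2.group F)) (hA : ∀ g, PP H 11 g ∨ PP H 9 g) (g : ↥(chevG2.group F)) : PP H 11 g := by
  have hA' : ∀ (i r s : ℕ), i < 2 → r < 12 → s < 12 → (∀ g, PP H r g ∨ PP H s g) →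
      ∀ g, PP H (chevG2.reflectRoot i r) g ∨ PP H (chevG2.reflectRoot i s) g := by
    intro i r s hi hr hs h g
    rw [PP_reflect H hi hr, PP_reflect H hi hs]
    exact h _
  obtain ⟨r1, r2, r3, r4, r5, r6, r7, r8, r9, r10, r11, r12⟩ := refl_tab
  have a1 : ∀ g, PP H 11 g ∨ PP H 8 g := by
    have := hA' 0 11 9 (by norm_num) (by norm_num) (by norm_num) hA
    rwa [r1, r2] at this
  have a2 : ∀ g, PP H 10 g ∨ PP H 9 g := by
    have := hA' 1 11 9 (by norm_num) (by norm_num) (by norm_num) hA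
    rwa [r3, r4] at this
  have a3 : ∀ g, PP H 6 g ∨ PP H 8 g := by
    have := hA' 0 10 9 (by norm_num) (by norm_num) (by norm_num) a2
    rwa [r5, r2] at this
  have a4 : ∀ g, PP H 5 g ∨ PP H 7 g := by
    have := hA' 1 6 8 (by norm_num) (by norm_num) (by norm_num) a3
    rwa [r6, r7] at this
  have a5 : ∀ g, PP H 1 g ∨ PP H 4 g := by
    have := hA' 0 5 7 (by norm_num) (by norm_num) (by norm_num) a4
    rwa [r8, r9] at this
  have hcl : ∀ g, PP H 9 g → PP H 1 g → PP H 11 g := by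
    have c0 := closure h3 hcube ht₀ ht₁ H
    have hC : ∀ (i a b c : ℕ), i < 2 → a < 12 → b < 12 → c < 12 → (∀ g, PP H a g → PP H b g → PP H c g) →
        ∀ g, PP H (chevG2.reflectRoot i a) g → PP H (chevG2.reflectRoot i b) g → PP H (chevG2.reflectRoot i c) g := by
      intro i a b c hi ha hb hc h g
      rw [PP_reflect H hi ha, PP_reflect H hi hb, PP_reflect H hi hc]
      exact h _
    have c1 := hC 1 7 6 10 (by norm_num) (by norm_num) (by norm_num) (by norm_num) c0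
    rw [r10, r6, r12] at c1
    have c2 := hC 0 8 5 11 (by norm_num) (by norm_num) (by norm_num) (by norm_num) c1
    rwa [r11, r8, r1] at c2
  have key : ∀ g, ¬ PP H 11 g → PP H 9 g ∧ PP H 8 g ∧ PP H 4 g := by
    intro g hg
    have b1 := (hA g).resolve_left hg
    have b2 := (a1 g).resolve_left hg
    have b3 : ¬ PP H 1 g := fun h => hg (hcl g b1 h)
    exact ⟨b1, b2, (a5 g).resolve_left b3⟩
  by_contra hg
  obtain ⟨b1, b2, b3⟩ := key g hg
  apply hg
  refine last h3 hcube H g b1 b2 fun c => ?_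
  refine (key _ fun h => hg ?_).2.2
  intro t
  have h1 := h t
  have c1 := comm_three h3 (r := 10) (s := 11) (by rw [nr]; norm_num) (by rw [nr]; norm_num) (by norm_num)
    neqs.2.2.2.2.1 abel3 c t
  have e : (xe hG2 10 c * g)⁻¹ * xe hG2 11 t * (xe hG2 10 c * g) =
      g⁻¹ * ((xe hG2 10 c)⁻¹ * (xe hG2 11 t * xe hG2 10 c)) * g := by group
  rw [e, c1, inv_mul_cancel_left] at h1
  exact h1

end Cfsg.Agent.H430.CfG2Frame
end

-- part: H430/CfG2Three
section
/-!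
# The smallest index of a proper subgroup of `G₂(q)`, `q = 3^f ≥ 9`

`main` : `q² (q² - 1) ≤ |G₂(q) : H|`.
-/

set_option autoImplicit false

namespace Cfsg.Agent.H430.CfG2Three

open Cfsg Cfsg.Lie Cfsg.Agent.ChevalleyStructure Cfsg.Agent.ChevalleyStructure.Elts
  Cfsg.Agent.H70.ChevFix Cfsg.Agent.H69.OutGF Cfsg.Agent.H934.HeisSq Cfsg.Agent.H934.HeisEC Cfsg.Agent.H934.HeisG
  Cfsg.Agent.H430.CfG2Frame

universe u

/-- The long roots. -/
def tab3 : HT 2 where
  S := ![6, 10]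
  th := 11
  opp := fun i => ⟨1 - i, by omega⟩
  e := ![-1, 1]
  p := 1

theorem tab3_ok : tab3.Ok chevG2 where
  S_lt := by decide +kernel
  th_lt := by decide +kernel
  th_ne := by decide +kernel
  S_ne := by decide +kernel
  opp_ne := by decide +kernel
  opp_opp := by decide +kernel
  p_lt := by decide +kernel
  p_th := by decide +kernel

/-- The roots of `E`. -/
def rE : Fin 3 → ℕ := ![8, 9, 11]

theorem rE_lt : ∀ k, rE k < chevG2.nroots := by decide +kernel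

theorem rE_ne : ∀ k l, k ≠ l → rE l ≠ rE k ∧ rE l ≠ chevG2.neg (rE k) ∧
    ∀ q ∈ chevG2.commTerms (rE k) (rE l), q.2.1 % 3 = 0 := by
  decide +kernel

theorem S_rE : ∀ k i, tab3.S i ≠ rE k ∧ tab3.S i ≠ chevG2.neg (rE k) ∧ chevG2.commTerms (rE k) (tab3.S i) = [] := by
  decide +kernel

theorem act_tab : chevG2.commTerms 8 7 = [(9, 2, 1, 1), (11, 3, 2, 1), (10, -3, 1, 2)] ∧
    chevG2.commTerms 9 7 = [(10, -3, 1, 1)] ∧ chevG2.commTerms 11 7 = [] ∧
    chevG2.commTerms 8 4 = [(6, 3, 1, 1)] ∧ chevG2.commTerms 9 4 = [(8, 2, 1, 1), (11, -3, 2, 1), (6, 3, 1, 2)] ∧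
    chevG2.commTerms 11 4 = [] := by
  decide +kernel

theorem act_ne : (7 : ℕ) ≠ chevG2.neg 8 ∧ 7 ≠ chevG2.neg 9 ∧ 7 ≠ chevG2.neg 11 ∧ 4 ≠ chevG2.neg 8 ∧
    4 ≠ chevG2.neg 9 ∧ 4 ≠ chevG2.neg 11 := by decide +kernel

/-- The abelian group. -/
abbrev EE (F : Type u) : Type u := Fin 3 → Multiplicative F

/-- A coordinate. -/
def sg {F : Type u} [Field F] (k : Fin 3) (v : F) : EE F := Pi.mulSingle k (Multiplicative.ofAdd v)

theorem sg_add {F : Type u} [Field F] (k : Fin 3) (v w : F) : sg k (v + w) = sg k v * sg k w := by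
  unfold sg
  rw [ofAdd_add, Pi.mulSingle_mul]

section Emb

variable {F : Type u} [Field F]

/-- A root group. -/
noncomputable def xh (F : Type u) [Field F] (r : ℕ) : Multiplicative F →* ↥(chevG2.group F) where
  toFun := fun v => xe hG2 r (Multiplicative.toAdd v)
  map_one' := xe_zero hG2 r
  map_mul' := fun a b => xe_add hG2 r _ _

/-- The embedding. -/
noncomputable def ii (h3 : (3 : F) = 0) : EE F →* ↥(chevG2.group F) :=
  MonoidHom.noncommPiCoprod (fun k => xh F (rE k)) (by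
    intro k l hkl x y
    obtain ⟨h1, h2, h4⟩ := rE_ne k l hkl
    exact (comm_three h3 (rE_lt k) (rE_lt l) h1 h2 h4 _ _).symm)

variable (h3 : (3 : F) = 0)

theorem ii_sg (k : Fin 3) (v : F) : ii h3 (sg k v) = xe hG2 (rE k) v :=
  MonoidHom.noncommPiCoprod_mulSingle _ _ _

theorem eq_prod (e : EE F) : e = sg 0 (Multiplicative.toAdd (e 0)) * (sg 1 (Multiplicative.toAdd (e 1)) *
    sg 2 (Multiplicative.toAdd (e 2))) := by
  funext k
  (revert k; simp only [sg, Pi.mulSingle_apply, Pi.mul_apply, _root_.Fin.forall_fin_succ, Fin.isValue, _root_.ofAdd_toAdd, _root_.mul_ite, _root_.ite_mul, _root_.one_mul, _root_.mul_one, Fin.reduceEq, ↓reduceIte, _root_.zero_ne_one, _root_.Fin.succ_ne_zero, _root_.Fin.succ_zero_eq_one, _root_.Fin.succ_one_eq_two, _root_.IsEmpty.forall_iff, _root_.and_self])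

theorem ii_eq (e : EE F) : ii h3 e = xe hG2 8 (Multiplicative.toAdd (e 0)) * (xe hG2 9 (Multiplicative.toAdd (e 1)) *
    xe hG2 11 (Multiplicative.toAdd (e 2))) := by
  conv_lhs => rw [eq_prod e]
  simp only [map_mul, ii_sg]
  rfl

/-- coefficients -/
def cf (e : EE F) (r : ℕ) : F :=
  match r with
  | 8 => Multiplicative.toAdd (e 0)
  | 9 => Multiplicative.toAdd (e 1)
  | 11 => Multiplicative.toAdd (e 2)
  | _ => 0

theorem ii_word (e : EE F) : (ii h3 e : GL chevG2.Idx F) =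
    wordG hG2 ((Cfsg.Agent.ChevalleyStructure.UnipProd.rootsGE chevG2 8).map fun r => (r, cf e r)) := by
  have h : Cfsg.Agent.ChevalleyStructure.UnipProd.rootsGE chevG2 8 = [8, 9, 10, 11] := by decide +kernel
  rw [h, ii_eq]
  simp only [List.map_cons, List.map_nil, wordG_cons, wordG_nil, cf, xG_zero, one_mul, mul_one]
  rfl

theorem ii_inj : Function.Injective (ii h3) := by
  intro e e' h
  have h1 : (ii h3 e : GL chevG2.Idx F) = ii h3 e' := congrArg Subtype.val h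
  rw [ii_word, ii_word] at h1
  have h2 := Cfsg.Agent.ChevalleyStructure.UnipProd.prod_injective hG2 (by decide +kernel) h1
  have h3 : ∀ k : Fin 3, cf e (rE k) = cf e' (rE k) := fun k => h2 _ (by revert k; decide) (rE_lt k)
  funext k
  have h4 := h3 k
  fin_cases k <;> exact h4

end Emb

/-! ### Characters -/

section Mu

variable {F : Type u} [Field F] [Finite F]

/-- A nontrivial additive character. -/
theorem exists_ch (F : Type u) [Field F] [Finite F] : ∃ ch : Multiplicative F →* ℂˣ,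
    ∀ a : F, a ≠ 0 → ∃ x : F, ch (Multiplicative.ofAdd (a * x)) ≠ 1 := by
  have := Fintype.ofFinite F
  have h1 : (Multiplicative.ofAdd (1 : F)) ≠ 1 := by
    intro h
    have : (1 : F) = 0 := h
    exact one_ne_zero this
  obtain ⟨φ, hφ⟩ := CommGroup.exists_apply_ne_one_of_hasEnoughRootsOfUnity (Multiplicative F) ℂ h1
  refine ⟨φ, fun a ha => ⟨a⁻¹, ?_⟩⟩
  rw [mul_inv_cancel₀ ha]
  exact hφ

/-- The characters. -/
noncomputable def mu (ch : Multiplicative F →* ℂˣ) (β : Fin 3 → F) : EE F →* ℂˣ where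
  toFun := fun e => ch (Multiplicative.ofAdd (∑ k, β k * Multiplicative.toAdd (e k)))
  map_one' := by simp
  map_mul' := fun a b => by
    rw [← map_mul, ← ofAdd_add, ← Finset.sum_add_distrib]
    congr 2
    refine Finset.sum_congr rfl fun k _ => ?_
    rw [Pi.mul_apply, toAdd_mul, mul_add]

variable {ch : Multiplicative F →* ℂˣ}

theorem mu_sg (β : Fin 3 → F) (k : Fin 3) (v : F) : mu ch β (sg k v) = ch (Multiplicative.ofAdd (β k * v)) := by
  show ch (Multiplicative.ofAdd (∑ l, β l * Multiplicative.toAdd (sg k v l))) = _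
  rw [Finset.sum_eq_single k]
  · simp only [sg, _root_.Pi.mulSingle_eq_same, _root_.toAdd_ofAdd]
  · intro l _ hl
    simp [sg, Pi.mulSingle_eq_of_ne hl]
  · intro h
    exact absurd (Finset.mem_univ k) h

theorem ch_ext (hch : ∀ a : F, a ≠ 0 → ∃ x : F, ch (Multiplicative.ofAdd (a * x)) ≠ 1) {a b : F}
    (h : ∀ v, ch (Multiplicative.ofAdd (a * v)) = ch (Multiplicative.ofAdd (b * v))) : a = b := by
  by_contra hab
  obtain ⟨x, hx⟩ := hch (a - b) (sub_ne_zero.2 hab)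
  apply hx
  rw [sub_mul, ofAdd_sub, map_div, h x, div_self']

theorem mu_injective (hch : ∀ a : F, a ≠ 0 → ∃ x : F, ch (Multiplicative.ofAdd (a * x)) ≠ 1) :
    Function.Injective (mu ch) := by
  intro β β' h
  funext k
  refine ch_ext hch fun v => ?_
  have h1 := DFunLike.congr_fun h (sg k v)
  rwa [mu_sg, mu_sg] at h1

theorem mu_surjective (hch : ∀ a : F, a ≠ 0 → ∃ x : F, ch (Multiplicative.ofAdd (a * x)) ≠ 1) :
    Function.Surjective (mu ch) := by
  have h1 : Monoid.exponent (EE F) ≠ 0 := Monoid.exponent_ne_zero_of_finite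
  haveI : NeZero (Monoid.exponent (EE F)) := ⟨h1⟩
  have h2 : Nat.card (EE F →* ℂˣ) = Nat.card (EE F) := CommGroup.card_monoidHom_of_hasEnoughRootsOfUnity (EE F) ℂ
  have h3 : Nat.card (Fin 3 → F) = Nat.card (EE F →* ℂˣ) := by
    rw [h2]
    exact Nat.card_congr (Equiv.refl _)
  haveI : Finite (EE F →* ℂˣ) := by
    apply Nat.finite_of_card_ne_zero
    rw [h2]
    exact Nat.card_pos.ne'
  exact ((Nat.bijective_iff_injective_and_card _).2 ⟨mu_injective hch, h3⟩).2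

/-- A character nontrivial on two given elements. -/
theorem exists_char2 {E : Type*} [CommGroup E] [Finite E] (S : Subgroup E) {x y : E} (hx : x ∉ S) (hy : y ∉ S) :
    ∃ μ : E →* ℂˣ, (∀ s ∈ S, μ s = 1) ∧ μ x ≠ 1 ∧ μ y ≠ 1 := by
  have key : ∀ z : E, z ∉ S → ∃ μ : E →* ℂˣ, (∀ s ∈ S, μ s = 1) ∧ μ z ≠ 1 := by
    intro z hz
    have h1 : (QuotientGroup.mk z : E ⧸ S) ≠ 1 := by
      intro h
      exact hz ((QuotientGroup.eq_one_iff z).1 h)
    have : NeZero (Monoid.exponent (E ⧸ S)) := ⟨Monoid.exponent_ne_zero_of_finite⟩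
    obtain ⟨φ, hφ⟩ := CommGroup.exists_apply_ne_one_of_hasEnoughRootsOfUnity (E ⧸ S) ℂ h1
    refine ⟨φ.comp (QuotientGroup.mk' S), fun s hs => ?_, hφ⟩
    show φ (QuotientGroup.mk s) = 1
    rw [(QuotientGroup.eq_one_iff s).2 hs, map_one]
  obtain ⟨μ, h1, h2⟩ := key x hx
  obtain ⟨ν, h3, h4⟩ := key y hy
  by_cases h5 : μ y = 1
  · by_cases h6 : ν x = 1
    · refine ⟨μ * ν, fun s hs => ?_, ?_, ?_⟩
      · rw [MonoidHom.mul_apply, h1 s hs, h3 s hs, mul_one]
      · rw [MonoidHom.mul_apply, h6, mul_one]; exact h2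
      · rw [MonoidHom.mul_apply, h5, one_mul]; exact h4
    · exact ⟨ν, h3, h6, h4⟩
  · exact ⟨μ, h1, h2, h5⟩

end Mu

/-! ### The special group -/

section Ext

variable {F : Type u} [Field F]

theorem e_ne : ∀ i, (tab3.e i : F) ≠ 0 := by
  have h : ∀ i, tab3.e i = 1 ∨ tab3.e i = -1 := by decide
  intro i
  rcases h i with h | h <;> rw [h]
  · simp
  · simp

/-- The special group. -/
noncomputable def DD (F : Type u) [Field F] : D0 ↥(chevG2.group F) (Fin 2 → F) F :=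
  (tab3.rs hG2 tab3_ok F e_ne).toD0

theorem xe_ii (h3 : (3 : F) = 0) (i : Fin 2) (t : F) (e : EE F) :
    xe hG2 (tab3.S i) t * ii h3 e = ii h3 e * xe hG2 (tab3.S i) t := by
  have h' : ∀ k v, xe hG2 (tab3.S i) t * ii h3 (sg k v) = ii h3 (sg k v) * xe hG2 (tab3.S i) t := by
    intro k v
    rw [ii_sg]
    obtain ⟨h1, h2, h4⟩ := S_rE k i
    exact comm_three h3 (rE_lt k) (tab3_ok.S_lt i) h1 h2 (by rw [h4]; simp) v t
  rw [eq_prod e]
  have hm : ∀ a b : EE F, xe hG2 (tab3.S i) t * ii h3 a = ii h3 a * xe hG2 (tab3.S i) t →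
      xe hG2 (tab3.S i) t * ii h3 b = ii h3 b * xe hG2 (tab3.S i) t →
      xe hG2 (tab3.S i) t * ii h3 (a * b) = ii h3 (a * b) * xe hG2 (tab3.S i) t := by
    intro a b ha hb
    rw [map_mul, ← mul_assoc, ha, mul_assoc, hb, mul_assoc]
  exact hm _ _ (h' _ _) (hm _ _ (h' _ _) (h' _ _))

theorem ext (h3 : (3 : F) = 0) : _root_.Cfsg.Agent.H934.HeisEC.Ext (DD F) (ii h3) (fun a => sg 2 a) where
  inj := ii_inj h3
  i_j := fun a => ii_sg h3 2 a
  X_i := by
    intro v e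
    have hi : ∀ (v : Fin 2 → F) (l : List (Fin 2)), (tab3.rs hG2 tab3_ok F e_ne).P l v * ii h3 e =
        ii h3 e * (tab3.rs hG2 tab3_ok F e_ne).P l v := by
      intro v l
      induction l with
      | nil => rw [RS.P_nil, one_mul, mul_one]
      | cons a l ih =>
        rw [RS.P_cons, mul_assoc, ih, ← mul_assoc, ← mul_assoc]
        congr 1
        exact xe_ii h3 a _ e
    exact hi v _

/-- the action of `X_a` on `E` -/
theorem conj_a (h3 : (3 : F) = 0) (τ : F) (e : EE F) :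
    ii h3 (sg 0 (Multiplicative.toAdd (e 0)) * (sg 1 (Multiplicative.toAdd (e 1) + Multiplicative.toAdd (e 0) * τ) *
      sg 2 (Multiplicative.toAdd (e 2)))) = xe hG2 7 τ * ii h3 e * (xe hG2 7 τ)⁻¹ := by
  rw [ii_eq h3 e, eq_mul_inv_iff_mul_eq, sg_add]
  simp only [map_mul, ii_sg]
  generalize Multiplicative.toAdd (e 0) = a
  generalize Multiplicative.toAdd (e 1) = b
  generalize Multiplicative.toAdd (e 2) = c
  have r0 : rE 0 = 8 := rfl
  have r1 : rE 1 = 9 := rfl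
  have r2 : rE 2 = 11 := rfl
  rw [r0, r1, r2]
  have h8 := comm (F := F) (r := 8) (s := 7) (by rw [nr]; norm_num) (by rw [nr]; norm_num) (by norm_num) act_ne.1 a τ
  rw [act_tab.1] at h8
  simp only [List.map_cons, List.map_nil, List.prod_cons, List.prod_nil, mul_one] at h8
  have e1 : (((2 : ℤ) : F) * (-a) ^ 1 * τ ^ 1) = a * τ := by push_cast; linear_combination (-(a * τ)) * h3
  have e2 : (((3 : ℤ) : F) * (-a) ^ 2 * τ ^ 1) = 0 := by push_cast; rw [h3]; ring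
  have e3 : (((-3 : ℤ) : F) * (-a) ^ 1 * τ ^ 2) = 0 := by push_cast; rw [h3]; ring
  rw [e1, e2, e3, xe_zero, xe_zero, mul_one, mul_one] at h8
  have h9 : ∀ x, xe hG2 7 τ * xe hG2 9 x = xe hG2 9 x * xe hG2 7 τ := fun x =>
    comm_three h3 (r := 9) (s := 7) (by rw [nr]; norm_num) (by rw [nr]; norm_num) (by norm_num) act_ne.2.1
      (by rw [act_tab.2.1]; simp only [_root_.Int.reduceNeg, _root_.List.mem_cons, _root_.List.not_mem_nil, _root_.or_false, _root_.EuclideanDomain.mod_eq_zero, _root_.forall_eq, _root_.dvd_neg, _root_.dvd_refl]) x τ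
  have h11 : ∀ x, xe hG2 7 τ * xe hG2 11 x = xe hG2 11 x * xe hG2 7 τ := fun x =>
    comm_three h3 (r := 11) (s := 7) (by rw [nr]; norm_num) (by rw [nr]; norm_num) (by norm_num) act_ne.2.2.1
      (by rw [act_tab.2.2.1]; simp) x τ
  have h99 : xe hG2 9 b * xe hG2 9 (a * τ) = xe hG2 9 (a * τ) * xe hG2 9 b := by
    rw [← xe_add, ← xe_add, add_comm]
  calc xe hG2 8 a * (xe hG2 9 b * xe hG2 9 (a * τ) * xe hG2 11 c) * xe hG2 7 τ
      = xe hG2 8 a * (xe hG2 9 (a * τ) * xe hG2 9 b) * (xe hG2 11 c * xe hG2 7 τ) := by rw [h99]; group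
    _ = xe hG2 8 a * xe hG2 9 (a * τ) * (xe hG2 9 b * xe hG2 7 τ) * xe hG2 11 c := by rw [← h11]; group
    _ = xe hG2 8 a * (xe hG2 9 (a * τ) * xe hG2 7 τ) * xe hG2 9 b * xe hG2 11 c := by rw [← h9]; group
    _ = (xe hG2 8 a * xe hG2 7 τ * xe hG2 9 (a * τ)) * xe hG2 9 b * xe hG2 11 c := by rw [← h9]; group
    _ = xe hG2 7 τ * (xe hG2 8 a * (xe hG2 9 b * xe hG2 11 c)) := by rw [← h8]; group

/-- the action of `X_{-a}` on `E` -/
theorem conj_ma (h3 : (3 : F) = 0) (τ : F) (e : EE F) :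
    ii h3 (sg 0 (Multiplicative.toAdd (e 0) + Multiplicative.toAdd (e 1) * τ) * (sg 1 (Multiplicative.toAdd (e 1)) *
      sg 2 (Multiplicative.toAdd (e 2)))) = xe hG2 4 τ * ii h3 e * (xe hG2 4 τ)⁻¹ := by
  rw [ii_eq h3 e, eq_mul_inv_iff_mul_eq, sg_add]
  simp only [map_mul, ii_sg]
  generalize Multiplicative.toAdd (e 0) = a
  generalize Multiplicative.toAdd (e 1) = b
  generalize Multiplicative.toAdd (e 2) = c
  have r0 : rE 0 = 8 := rfl
  have r1 : rE 1 = 9 := rfl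
  have r2 : rE 2 = 11 := rfl
  rw [r0, r1, r2]
  have h9 := comm (F := F) (r := 9) (s := 4) (by rw [nr]; norm_num) (by rw [nr]; norm_num) (by norm_num)
    act_ne.2.2.2.2.1 b τ
  rw [act_tab.2.2.2.2.1] at h9
  simp only [List.map_cons, List.map_nil, List.prod_cons, List.prod_nil, mul_one] at h9
  have e1 : (((2 : ℤ) : F) * (-b) ^ 1 * τ ^ 1) = b * τ := by push_cast; linear_combination (-(b * τ)) * h3
  have e2 : (((-3 : ℤ) : F) * (-b) ^ 2 * τ ^ 1) = 0 := by push_cast; rw [h3]; ring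
  have e3 : (((3 : ℤ) : F) * (-b) ^ 1 * τ ^ 2) = 0 := by push_cast; rw [h3]; ring
  rw [e1, e2, e3, xe_zero, xe_zero, mul_one, mul_one] at h9
  have h8 : ∀ x, xe hG2 4 τ * xe hG2 8 x = xe hG2 8 x * xe hG2 4 τ := fun x =>
    comm_three h3 (r := 8) (s := 4) (by rw [nr]; norm_num) (by rw [nr]; norm_num) (by norm_num) act_ne.2.2.2.1
      (by rw [act_tab.2.2.2.1]; simp) x τ
  have h11 : ∀ x, xe hG2 4 τ * xe hG2 11 x = xe hG2 11 x * xe hG2 4 τ := fun x =>
    comm_three h3 (r := 11) (s := 4) (by rw [nr]; norm_num) (by rw [nr]; norm_num) (by norm_num) act_ne.2.2.2.2.2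
      (by rw [act_tab.2.2.2.2.2]; simp) x τ
  have h98 : xe hG2 8 (b * τ) * xe hG2 9 b = xe hG2 9 b * xe hG2 8 (b * τ) :=
    (comm_three h3 (r := 8) (s := 9) (by rw [nr]; norm_num) (by rw [nr]; norm_num) (by norm_num)
      (neqs.2.2.2.2.2 8 (by simp) 9 (by simp)) (abel 8 (by simp) 9 (by simp)) (b * τ) b).symm
  calc xe hG2 8 a * xe hG2 8 (b * τ) * (xe hG2 9 b * xe hG2 11 c) * xe hG2 4 τ
      = xe hG2 8 a * (xe hG2 8 (b * τ) * xe hG2 9 b) * (xe hG2 11 c * xe hG2 4 τ) := by group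
    _ = xe hG2 8 a * xe hG2 9 b * (xe hG2 8 (b * τ) * xe hG2 4 τ) * xe hG2 11 c := by rw [h98, ← h11]; group
    _ = xe hG2 8 a * (xe hG2 9 b * xe hG2 4 τ * xe hG2 8 (b * τ)) * xe hG2 11 c := by rw [← h8]; group
    _ = (xe hG2 8 a * xe hG2 4 τ) * xe hG2 9 b * xe hG2 11 c := by rw [← h9]; group
    _ = xe hG2 4 τ * (xe hG2 8 a * (xe hG2 9 b * xe hG2 11 c)) := by rw [← h8]; group

end Ext

/-! ### The bound -/

section Main

variable {F : Type u} [Field F] [Finite F]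

theorem mu_apply (ch : Multiplicative F →* ℂˣ) (β : Fin 3 → F) (a b c : F) :
    mu ch β (sg 0 a * (sg 1 b * sg 2 c)) = ch (Multiplicative.ofAdd (β 0 * a + β 1 * b + β 2 * c)) := by
  rw [map_mul, map_mul, mu_sg, mu_sg, mu_sg, ← map_mul, ← map_mul, ← ofAdd_add, ← ofAdd_add]
  congr 2
  ring

theorem w_orbit (h3 : (3 : F) = 0) (ch : Multiplicative F →* ℂˣ) {w : (EE F →* ℂˣ) → ℕ}
    (hw : ∀ (g : ↥(chevG2.group F)) (φ : EE F ≃* EE F), (∀ e, ii h3 (φ e) = g * ii h3 e * g⁻¹) →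
      ∀ μ, w (μ.comp φ.toMonoidHom) = w μ) {b c : F} (z : F) (hbc : b ≠ 0 ∨ c ≠ 0) :
    w (mu ch ![b, c, z]) = w (mu ch ![1, 0, z]) := by
  have s1 : ∀ b c τ : F, w (mu ch ![b + c * τ, c, z]) = w (mu ch ![b, c, z]) := by
    intro b c τ
    refine H934.HeisF4Even.w_conj (ii_inj h3) hw (xe hG2 7 τ) _ _ fun e => ⟨_, conj_a h3 τ e, ?_⟩
    rw [mu_apply]
    conv_rhs => rw [eq_prod e]
    rw [mu_apply]
    congr 2
    show b * _ + c * _ + z * _ = (b + c * τ) * _ + c * _ + z * _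
    ring
  have s2 : ∀ b c τ : F, w (mu ch ![b, c + b * τ, z]) = w (mu ch ![b, c, z]) := by
    intro b c τ
    refine H934.HeisF4Even.w_conj (ii_inj h3) hw (xe hG2 4 τ) _ _ fun e => ⟨_, conj_ma h3 τ e, ?_⟩
    rw [mu_apply]
    conv_rhs => rw [eq_prod e]
    rw [mu_apply]
    congr 2
    show b * _ + c * _ + z * _ = b * _ + (c + b * τ) * _ + z * _
    ring
  have s3 : ∀ b c : F, c ≠ 0 → w (mu ch ![b, c, z]) = w (mu ch ![1, 0, z]) := by
    intro b c hc
    have h1 := s1 b c ((1 - b) / c)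
    rw [mul_div_cancel₀ _ hc, add_sub_cancel] at h1
    have h2 := s2 1 c (-c)
    rw [one_mul, add_neg_cancel] at h2
    rw [← h1, h2]
  rcases eq_or_ne c 0 with rfl | hc
  · have hb : b ≠ 0 := by
      rcases hbc with h | h
      · exact h
      · exact absurd rfl h
    have h1 := s2 b 0 (b⁻¹)
    rw [mul_inv_cancel₀ hb, zero_add] at h1
    rw [← h1]
    exact s3 b 1 one_ne_zero
  · exact s3 b c hc

/-- The centre. -/
def sgh (F : Type u) [Field F] : Multiplicative F →* EE F := MonoidHom.mulSingle (fun _ => Multiplicative F) 2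

theorem sgh_injective : Function.Injective (sgh F) := by
  intro a b h
  have h1 : sgh F a 2 = sgh F b 2 := congrFun h 2
  have h2 : ∀ a, sgh F a 2 = a := fun a => Pi.mulSingle_eq_same (M := fun _ => Multiplicative F) (2 : Fin 3) a
  rw [h2, h2] at h1
  exact h1

theorem card_Z : Nat.card (sgh F).range = Nat.card F := by
  rw [← Nat.card_congr (MonoidHom.ofInjective (sgh_injective (F := F))).toEquiv]
  exact Nat.card_congr Multiplicative.toAdd

theorem card_EE : Nat.card (EE F) = Nat.card F ^ 3 := by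
  rw [Nat.card_fun, Nat.card_eq_fintype_card (α := Fin 3), Fintype.card_fin]
  rfl

theorem eq_top_of_PP (hs : IsSimpleGroup ↥(chevG2.group F)) (H : Subgroup ↥(chevG2.group F))
    (h : ∀ g, CfG2Frame.PP H 11 g) : H = ⊤ := by
  have h1 : Subgroup.normalClosure ({xe hG2 11 (1 : F)} : Set ↥(chevG2.group F)) ≤ H := by
    rw [Subgroup.normalClosure, Subgroup.closure_le]
    intro x hx
    obtain ⟨y, hy, hyx⟩ := Group.mem_conjugatesOfSet_iff.1 hx
    rw [Set.mem_singleton_iff] at hy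
    obtain ⟨c, hc⟩ := isConj_iff.1 hyx
    have h2 := h c⁻¹ 1
    rw [inv_inv] at h2
    rw [← hc, hy]
    exact h2
  rcases hs.eq_bot_or_eq_top_of_normal _ (Subgroup.normalClosure_normal (s := {xe hG2 11 (1 : F)})) with h2 | h2
  · exfalso
    have h3 : xe hG2 11 (1 : F) ∈ Subgroup.normalClosure ({xe hG2 11 (1 : F)} : Set ↥(chevG2.group F)) :=
      Subgroup.subset_normalClosure rfl
    rw [h2, Subgroup.mem_bot] at h3
    exact one_ne_zero (xe_eq_one hG2 (by rw [nr]; norm_num) h3)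
  · rw [h2] at h1
    exact top_le_iff.1 h1

seal _root_.Finset.sum _root_.dotProduct in
/-- **The index of a proper subgroup.** -/
theorem main (h3 : (3 : F) = 0) (hq : 9 ≤ Nat.card F) (hs : IsSimpleGroup ↥(chevG2.group F))
    (H : Subgroup ↥(chevG2.group F)) (hH : H ≠ ⊤) :
    Nat.card F ^ 2 * (Nat.card F ^ 2 - 1) ≤ H.index := by
  classical
  have := Fintype.ofFinite F
  have hfin : Finite (GL chevG2.Idx F) := inferInstance
  have hfinG : Finite ↥(chevG2.group F) := inferInstance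
  have hchar : CharP F 3 := by
    have : Fact (Nat.Prime 3) := ⟨Nat.prime_three⟩
    have h1 : ((3 : ℕ) : F) = 0 := by exact_mod_cast h3
    obtain ⟨r, hr⟩ := CharP.exists F
    have h2 : r ∣ 3 := (CharP.cast_eq_zero_iff F r 3).1 h1
    rcases (Nat.dvd_prime Nat.prime_three).1 h2 with h4 | h4
    · exact absurd h4 (CharP.char_ne_one F r)
    · rwa [← h4]
  have : Fact (Nat.Prime 3) := ⟨Nat.prime_three⟩
  have hcube : ∀ x : F, ∃ y : F, y ^ 3 = x := fun x => hperf 3 x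
  obtain ⟨t₀, ht₀, ht₁⟩ : ∃ t : F, t ≠ 0 ∧ t ^ 2 ≠ 1 := by
    by_contra hcon
    push Not at hcon
    have h1 : (Finset.univ : Finset F) ⊆ {0, 1, -1} := by
      intro t _
      by_cases h0 : t = 0
      · simp only [h0, _root_.Finset.mem_insert, _root_.zero_ne_one, _root_.Finset.mem_singleton, _root_.zero_eq_neg, _root_.one_ne_zero, _root_.or_self, _root_.or_false]
      · have h2 : t = 1 ∨ t = -1 := by
          have h3 : (t - 1) * (t + 1) = 0 := by linear_combination hcon t h0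
          rcases mul_eq_zero.1 h3 with h3 | h3
          · exact Or.inl (sub_eq_zero.1 h3)
          · exact Or.inr (eq_neg_of_add_eq_zero_left h3)
        rcases h2 with h2 | h2 <;> simp only [h2, _root_.Finset.mem_insert, _root_.one_ne_zero, _root_.Finset.mem_singleton, _root_.true_or, _root_.or_true, _root_.neg_eq_zero]
    have h2 := Finset.card_le_card h1
    rw [Finset.card_univ, ← Nat.card_eq_fintype_card] at h2
    have h4 : ({0, 1, -1} : Finset F).card ≤ 3 := Finset.card_le_three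
    omega
  -- the good point
  obtain ⟨g, hg1, hg2⟩ : ∃ g, ¬ CfG2Frame.PP H 11 g ∧ ¬ CfG2Frame.PP H 9 g := by
    by_contra hcon
    push Not at hcon
    exact hH (eq_top_of_PP hs H (top_of h3 hcube ht₀ ht₁ H fun g => or_iff_not_imp_left.2 fun h => hcon g h))
  unfold CfG2Frame.PP at hg1 hg2
  push Not at hg1 hg2
  obtain ⟨t, ht⟩ := hg1
  obtain ⟨s, hs'⟩ := hg2
  letI : MulAction (EE F) (↥(chevG2.group F) ⧸ H) := (MulAction.compHom _ (ii h3) : _)
  haveI : Fintype (↥(chevG2.group F) ⧸ H) := Fintype.ofFinite _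
  have hcomp : ∀ (e : EE F) (ω : ↥(chevG2.group F) ⧸ H), e • ω = ii h3 e • ω := fun _ _ => rfl
  have hstab : ∀ x : ↥(chevG2.group F), x • (QuotientGroup.mk g : ↥(chevG2.group F) ⧸ H) = QuotientGroup.mk g →
      g⁻¹ * x * g ∈ H := by
    intro x hx
    have h1 : (QuotientGroup.mk (x * g) : ↥(chevG2.group F) ⧸ H) = QuotientGroup.mk g := hx
    have h2 := QuotientGroup.eq.1 h1.symm
    rwa [← mul_assoc] at h2
  obtain ⟨μ, hμ1, hμ2, hμ3⟩ := exists_char2
    (MulAction.stabilizer (EE F) (QuotientGroup.mk g : ↥(chevG2.group F) ⧸ H)) (x := sg 2 t) (y := sg 1 s)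
    (fun h => ht (by
      have h1 := hstab (ii h3 (sg 2 t)) h
      rwa [ii_sg] at h1))
    (fun h => hs' (by
      have h1 := hstab (ii h3 (sg 1 s)) h
      rwa [ii_sg] at h1))
  obtain ⟨ch, hch⟩ := exists_ch F
  obtain ⟨β, rfl⟩ := mu_surjective hch μ
  have hβ : β = ![β 0, β 1, β 2] := by
    funext k
    fin_cases k <;> rfl
  have hβ1 : β 1 ≠ 0 := by
    intro h
    apply hμ3
    rw [mu_sg, h, zero_mul, ofAdd_zero, map_one]
  -- the weight is positive
  have hW : W (↥(chevG2.group F) ⧸ H) (mu ch β) ≠ 0 := by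
    unfold W
    intro hsum0
    have hz := (Finset.sum_eq_zero_iff.1 hsum0) (QuotientGroup.mk g) (Finset.mem_univ _)
    rw [H934.Burn.wt_pos] at hz
    · exact Nat.card_pos.ne' hz
    · intro e he
      exact congrArg Units.val (hμ1 e he)
  have hWsq := W_sq_ge (hcomp :) hW (Cg (ext h3)) (iC (ext h3)) (coe_iC (ext h3)) (hypE (ext h3) (a0 := t) hμ2)
  rw [card_Cg, card_EE, Nat.card_fun, Nat.card_eq_fintype_card (α := Fin 2), Fintype.card_fin] at hWsq
  set q := Nat.card F with hqd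
  have hW4 : q ^ 4 ≤ W (↥(chevG2.group F) ⧸ H) (mu ch β) := by
    have h2 : (q ^ 4) ^ 2 ≤ W (↥(chevG2.group F) ⧸ H) (mu ch β) ^ 2 := by
      calc (q ^ 4) ^ 2 = q ^ 2 * q ^ 3 * q ^ 3 := by ring
        _ ≤ _ := hWsq
    exact (Nat.pow_le_pow_iff_left (by norm_num)).1 h2
  -- the sum
  let lam : (sgh F).range →* ℂˣ := (mu ch β).comp (sgh F).range.subtype
  have hl : lam ≠ 1 := by
    intro h
    apply hμ2
    have h1 : lam ⟨sg 2 t, Multiplicative.ofAdd t, rfl⟩ = 1 := by rw [h]; rfl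
    exact h1
  have ht0 : t ≠ 0 := by
    rintro rfl
    apply hμ2
    rw [mu_sg, mul_zero, ofAdd_zero, map_one]
  have hc : ∀ z ∈ (sgh F).range, z ≠ 1 → H934.Burn.fx (↥(chevG2.group F) ⧸ H) z =
      H934.Burn.fx (↥(chevG2.group F) ⧸ H) (sg 2 t : EE F) := by
    rintro _ ⟨a, rfl⟩ ha
    have h1 : IsConj (xe hG2 11 (Multiplicative.toAdd a)) (xe hG2 11 t) := by
      refine z_isConj0 hG2 tab3_ok.th_lt tab3_ok.p_lt tab3_ok.p_th _ _ ?_ ht0
      rintro h0
      apply ha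
      have : a = 1 := h0
      rw [this, map_one]
    have h2 : ∀ a : F, H934.Burn.fx (↥(chevG2.group F) ⧸ H) (sg 2 a : EE F) =
        H934.Burn.fx (↥(chevG2.group F) ⧸ H) (xe hG2 11 a) := by
      intro a
      have h4 : ii h3 (sg 2 a) = xe hG2 11 a := ii_sg h3 2 a
      rw [← h4]
      rfl
    have h5 : sgh F a = sg 2 (Multiplicative.toAdd a) := rfl
    rw [h5, h2, h2]
    exact H934.Burn.fx_of_isConj h1
  set O : Finset (EE F →* ℂˣ) := (Finset.univ.filter fun p : F × F => p ≠ 0).image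
    fun p => mu ch ![p.1, p.2, β 2] with hO
  have hsum := sum_le (↥(chevG2.group F) ⧸ H) (sgh F).range lam hl _ hc O (by
    rintro μ hμ ⟨_, a, rfl⟩
    rw [hO, Finset.mem_image] at hμ
    obtain ⟨p, -, rfl⟩ := hμ
    have h2 : lam ⟨sgh F a, a, rfl⟩ = mu ch β (sg 2 (Multiplicative.toAdd a)) := rfl
    rw [h2, mu_sg]
    exact mu_sg _ 2 _)
  have hconj : ∀ (g : ↥(chevG2.group F)) (φ : EE F ≃* EE F), (∀ e, ii h3 (φ e) = g * ii h3 e * g⁻¹) →
      ∀ μ, W (↥(chevG2.group F) ⧸ H) (μ.comp φ.toMonoidHom) = W (↥(chevG2.group F) ⧸ H) μ :=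
    fun g φ hφ μ => W_congr hcomp hφ μ
  have hWeq : ∀ μ ∈ O, W (↥(chevG2.group F) ⧸ H) μ = W (↥(chevG2.group F) ⧸ H) (mu ch β) := by
    intro μ hμ
    rw [hO, Finset.mem_image] at hμ
    obtain ⟨p, hp, rfl⟩ := hμ
    rw [Finset.mem_filter] at hp
    rw [w_orbit h3 ch hconj (β 2) (b := p.1) (c := p.2) (by
      by_contra hcon
      push Not at hcon
      exact hp.2 (Prod.ext hcon.1 hcon.2))]
    conv_rhs => rw [hβ]
    exact (w_orbit h3 ch hconj (β 2) (Or.inr hβ1)).symm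
  rw [Finset.sum_congr rfl hWeq, Finset.sum_const, smul_eq_mul, card_Z, card_EE, ← hqd] at hsum
  have hcO : O.card = q ^ 2 - 1 := by
    rw [hO, Finset.card_image_of_injective]
    · have h1 : (Finset.univ.filter fun p : F × F => p ≠ 0) = Finset.univ.erase 0 := by
        ext p; simp only [_root_.ne_eq, _root_.Finset.mem_filter, _root_.Finset.mem_univ, _root_.true_and, _root_.Finset.mem_erase, _root_.and_true]
      rw [h1, Finset.card_erase_of_mem (Finset.mem_univ _), Finset.card_univ, Fintype.card_prod, hqd,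
        Nat.card_eq_fintype_card, sq]
    · intro p p' hpp
      have h1 := mu_injective hch hpp
      exact Prod.ext (congrFun h1 0) (congrFun h1 1)
  rw [hcO] at hsum
  have hidx : Nat.card (↥(chevG2.group F) ⧸ H) = H.index := rfl
  rw [hidx] at hsum
  have h5 : q ^ 3 * (q ^ 2 * (q ^ 2 - 1)) ≤ q ^ 3 * H.index := by
    calc q ^ 3 * (q ^ 2 * (q ^ 2 - 1)) = (q ^ 2 - 1) * q ^ 4 * q := by ring
      _ ≤ (q ^ 2 - 1) * W (↥(chevG2.group F) ⧸ H) (mu ch β) * q :=
          Nat.mul_le_mul_right _ (Nat.mul_le_mul_left _ hW4)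
      _ ≤ q ^ 3 * (H.index - _) := hsum
      _ ≤ _ := Nat.mul_le_mul_left _ (Nat.sub_le _ _)
  exact Nat.le_of_mul_le_mul_left h5 (by positivity)

end Main

end Cfsg.Agent.H430.CfG2Three
end

private theorem dce_5cf6449ea072 : _root_.True := by
  try have : _root_.True := by simp only [_root_.Cfsg.Agent.H430.CfG2Three.ii.congr_simp]
  try have : _root_.True := by simp only [_root_.Cfsg.Agent.H430.CfG2Three.sg.eq_1]
  try have : _root_.True := by simp only [_root_.Cfsg.Agent.H430.CfG2Three.cf.eq_3]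
  try have : _root_.True := by simp only [_root_.Cfsg.Agent.H430.CfG2Three.cf.eq_2]
  try have : _root_.True := by simp only [_root_.Cfsg.Agent.H430.CfG2Three.cf.eq_1]
  try have : _root_.True := by simp only [_root_.Cfsg.Agent.H430.CfG2Three.cf.eq_4]
  exact _root_.True.intro
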